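import Cfsg.Agent.Lib.Dot0.Inv

/-! Automorphisms of `Co0`, first part: an automorphism fixing the monomial group elementwise is
trivial; elements of order 23. -/

set_option autoImplicit false
set_option maxHeartbeats 400000

namespace Cfsg.Lib.Dot0

open Finset Cfsg.Lib.Leech
open scoped Pointwise symmDiff

theorem empty_or_univ {e S : Finset GolayPt} (he : e ∈ GC) (hS : S.card < 8) (b : GolayPt)
    (h : ∀ x, x ∉ S → (x ∈ e ↔ b ∈ e)) : e = ∅ ∨ e = univ := by
  by_cases hb : b ∈ e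
  · right
    have h1 : eᶜ ⊆ S := fun x hx => by
      by_contra h2; exact mem_compl.1 hx ((h x h2).2 hb)
    have h2 := gc_eq_empty_of_lt (compl_mem_GC he) (lt_of_le_of_lt (card_le_card h1) hS)
    rwa [compl_eq_empty_iff] at h2
  · left
    have h1 : e ⊆ S := fun x hx => by
      by_contra h2; exact hb ((h x h2).1 hx)
    exact gc_eq_empty_of_lt he (lt_of_le_of_lt (card_le_card h1) hS)

theorem pow_smul_eq {σ : Equiv.Perm GolayPt} {e : Finset GolayPt} (h : σ • e = e) (n : ℕ) :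
    σ ^ n • e = e := by
  induction n with
  | zero => rw [pow_zero, one_smul]
  | succ n ih => rw [pow_succ, mul_smul, h, ih]

theorem mem_iff_of_smul {σ : Equiv.Perm GolayPt} {e : Finset GolayPt} (h : σ • e = e)
    (x : GolayPt) : σ x ∈ e ↔ x ∈ e := by
  conv_lhs => rw [← h]
  exact apply_mem_smul_iff σ e x

theorem smul_eq_of_comm {σ : Equiv.Perm GolayPt} (hσ : σ ∈ M24) {c : Finset GolayPt} (hc : c ∈ GC)
    (h : pe σ * sg c = sg c * pe σ) : σ • c = c := by
  rw [pe_sg hσ hc] at h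
  exact sg_inj (smul_mem_GC hσ hc) hc (mul_right_cancel h)

theorem fix_four {T : Finset GolayPt} (hT : T.card = 4) {x y : GolayPt} (hx : x ∉ T) (hy : y ∉ T) :
    ∃ σ ∈ M24, (∀ t ∈ T, σ t = t) ∧ σ x = y := by
  let e : Fin 4 → GolayPt := fun i => ((T.equivFinOfCardEq hT).symm i).1
  have he : Function.Injective e := fun i j h =>
    (T.equivFinOfCardEq hT).symm.injective (Subtype.ext h)
  have h1 : ∀ z, z ∉ T → z ∉ Set.range e := by
    rintro _ hz ⟨i, rfl⟩; exact hz ((T.equivFinOfCardEq hT).symm i).2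
  obtain ⟨σ, hσ, h2⟩ := Golay.M24_tuple_trans (k := 5) le_rfl (Fin.cons x e) (Fin.cons y e)
    (Fin.cons_injective_iff.2 ⟨h1 x hx, he⟩) (Fin.cons_injective_iff.2 ⟨h1 y hy, he⟩)
  refine ⟨σ, hσ, fun t ht => ?_, h2 0⟩
  have h3 := h2 (Fin.succ (T.equivFinOfCardEq hT ⟨t, ht⟩))
  simpa [e] using h3

theorem sg_tv {c T : Finset GolayPt} (hc : c ∈ GC) (hT : T.card = 4) (M : Finset GolayPt) :
    sg c • tv T M = tv T (M ∆ c) := by
  refine Subtype.ext (funext fun k => ?_)
  rw [sg_apply hc, tv_apply hT, tv_apply hT]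
  by_cases h : k ∈ c <;> by_cases h' : k ∈ M <;> simp [sgn, mem_symmDiff, h, h']

theorem pe_tv {σ : Equiv.Perm GolayPt} (hσ : σ ∈ M24) {T : Finset GolayPt} (hT : T.card = 4)
    (h : ∀ t ∈ T, σ t = t) (M : Finset GolayPt) : pe σ • tv T M = tv T M := by
  refine Subtype.ext (funext fun k => ?_)
  rw [pe_apply hσ]
  by_cases hk : k ∈ T
  · rw [Equiv.Perm.inv_eq_iff_eq.2 (h k hk).symm]
  · rw [tv_out hT M hk, tv_out hT M fun h1 => hk ?_]
    have := h _ h1
    rw [← Equiv.Perm.mul_apply, mul_inv_cancel, Equiv.Perm.one_apply] at this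
    rwa [this]

theorem sep_even {T : Finset GolayPt} (hT : T.card = 4) {i j : GolayPt} (hij : i ≠ j) :
    ∃ c ∈ GC, (i ∈ c ↔ j ∉ c) ∧ (c ∩ T).card % 2 = 0 := by
  have hS : (insert i (insert j T)).card ≤ 7 := by
    have := card_insert_le i (insert j T)
    have := card_insert_le j T
    omega
  have key : ∀ P ⊆ insert i (insert j T), (i ∈ P ↔ j ∉ P) → (P ∩ T).card % 2 = 0 →
      ∃ c ∈ GC, (i ∈ c ↔ j ∉ c) ∧ (c ∩ T).card % 2 = 0 := by
    intro P hP h1 h2
    obtain ⟨c, hc, h3⟩ := exists_pattern hS P hP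
    have h4 : ∀ x ∈ insert i (insert j T), (x ∈ c ↔ x ∈ P) := fun x hx => by
      rw [← h3, mem_inter]; simp only [hx, and_true]
    refine ⟨c, hc, by rw [h4 i (by simp), h4 j (by simp)]; exact h1, ?_⟩
    have : c ∩ T = P ∩ T := by
      ext x
      simp only [mem_inter]
      exact and_congr_left fun hx => h4 x (by simp [hx])
    rw [this, h2]
  by_cases hi : i ∈ T
  · by_cases hj : j ∈ T
    · obtain ⟨w, hw, hw'⟩ : ∃ w ∈ T, w ∉ ({i, j} : Finset GolayPt) :=
        exists_mem_notMem_of_card_lt_card (by rw [card_pair hij]; omega)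
      simp only [mem_insert, mem_singleton, not_or] at hw'
      refine key {i, w} (by simp [insert_subset_iff, hw]) (by simp [hij.symm, Ne.symm hw'.2]) ?_
      rw [inter_eq_left.2 (by simp [insert_subset_iff, hw, hi]), card_pair (Ne.symm hw'.1)]
    · exact key {j} (by simp) (by simp [hij]) (by rw [singleton_inter_of_notMem hj]; rfl)
  · exact key {i} (by simp) (by simp [hij.symm]) (by rw [singleton_inter_of_notMem hi]; rfl)

theorem aut_pm {φ : Co0 ≃* Co0} (hφ : ∀ x ∈ NN, φ x = x) {T M : Finset GolayPt} (hT : T.card = 4)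
    {g : Co0} (hg : g • tv T M = e8 none) : φ g = g ∨ φ g = zz * g := by
  have h1 : ∀ x ∈ NN, g * x * g⁻¹ ∈ NN → x * (g⁻¹ * φ g) = (g⁻¹ * φ g) * x := by
    intro x hx hx'
    have h2 := hφ _ hx'
    rw [map_mul, map_mul, map_inv, hφ x hx] at h2
    calc x * (g⁻¹ * φ g) = g⁻¹ * (g * x * g⁻¹) * φ g := by group
      _ = (g⁻¹ * φ g) * x := by rw [← h2]; group
  have h2 : ∀ x : Co0, (g * x * g⁻¹) • e8 none = g • x • tv T M := fun x => by
    rw [← hg, ← mul_smul, inv_mul_cancel_right, mul_smul]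
  obtain ⟨c, hc, h3⟩ : g⁻¹ * φ g ∈ EE := by
    refine mem_EE_of_comm fun i j hij => ?_
    obtain ⟨c, hc, h3, h4⟩ := sep_even hT hij
    refine ⟨c, hc, h3, h1 _ (sg_mem_NN hc) ?_⟩
    obtain ⟨k, hk⟩ := tv_frame (M := M ∆ c) hT hT (by rw [symmDiff_self]; exact empty_mem_GC) (by
      have := card_symmDiff_add (M ∩ T) (c ∩ T)
      have h5 : (M ∆ c) ∩ T = (M ∩ T) ∆ (c ∩ T) := by
        ext x; simp only [mem_symmDiff, mem_inter]; tauto
      rw [h5]
      omega) hg
    exact mem_NN_of_e8 (a := none) (b := k) (by rw [h2, sg_tv hc hT]; exact hk)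
  obtain ⟨b, -, hb⟩ : ∃ b ∈ (univ : Finset GolayPt), b ∉ T :=
    exists_mem_notMem_of_card_lt_card (by rw [card_univ, card_pt]; omega)
  have h4 := empty_or_univ hc (S := T) (by omega) b fun x hx => by
    obtain ⟨σ, hσ, h4, h5⟩ := fix_four hT hb hx
    have h6 := h1 _ (pe_mem_NN hσ) (mem_NN_of_e8 (a := none) (b := none)
      (Or.inl (by rw [h2, pe_tv hσ hT h4, hg])))
    rw [h3] at h6
    rw [← h5]
    exact mem_iff_of_smul (smul_eq_of_comm hσ hc h6) b
  rcases h4 with rfl | rfl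
  · rw [sg_empty, inv_mul_eq_one] at h3
    exact Or.inl h3.symm
  · rw [inv_mul_eq_iff_eq_mul] at h3
    exact Or.inr (by rw [h3, zz_comm]; rfl)

theorem aut_eq_of_fix {φ : Co0 ≃* Co0} (hφ : ∀ x ∈ NN, φ x = x) (x : Co0) : φ x = x := by
  let H : Subgroup Co0 :=
    { carrier := {g | φ g = g ∨ φ g = zz * g}
      one_mem' := Or.inl (map_one φ)
      mul_mem' := by
        rintro a b (ha | ha) (hb | hb)
        · exact Or.inl (by rw [map_mul, ha, hb])
        · exact Or.inr (by rw [map_mul, ha, hb, ← mul_assoc, ← zz_comm, mul_assoc])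
        · exact Or.inr (by rw [map_mul, ha, hb, mul_assoc])
        · exact Or.inl (by
            rw [map_mul, ha, hb, mul_assoc, ← mul_assoc a, ← zz_comm, mul_assoc, ← mul_assoc zz, zz_sq,
              one_mul])
      inv_mem' := by
        rintro a (ha | ha)
        · exact Or.inl (by rw [map_inv, ha])
        · exact Or.inr (by
            rw [map_inv, ha, mul_inv_rev, inv_eq_of_mul_eq_one_right zz_sq, zz_comm]) }
  have h1 : H = ⊤ := gen_top (fun x hx => Or.inl (hφ x hx)) fun T M hT => by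
    obtain ⟨g, hg⟩ := trans64 (nrm_tv hT M)
    exact ⟨g, aut_pm hφ hT hg, hg⟩
  have h2 : ∀ g, φ g = g ∨ φ g = zz * g := fun g => by
    have : g ∈ H := h1 ▸ Subgroup.mem_top g
    exact this
  have h3 : (φ.toMonoidHom.eqLocus (MonoidHom.id Co0)).Normal := ⟨fun k hk g => by
    have hk' : φ k = k := hk
    show φ (g * k * g⁻¹) = g * k * g⁻¹
    rw [map_mul, map_mul, map_inv, hk']
    rcases h2 g with h | h <;> rw [h]
    rw [mul_inv_rev, ← mul_assoc, mul_assoc zz, mul_assoc zz, zz_comm, mul_inv_cancel_right]⟩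
  rcases co0_normal _ h3 with h | h
  · have : x ∈ φ.toMonoidHom.eqLocus (MonoidHom.id Co0) := h ▸ Subgroup.mem_top x
    exact this
  · have h4 : NN ≤ Subgroup.center Co0 := fun x hx => h (hφ x hx)
    have h5 := Subgroup.card_le_of_le h4
    rw [card_NN, card_center_co0] at h5
    omega

/-! ### Elements of order 23 -/

theorem inv_23 {y : Equiv.Perm GolayPt} (h1 : y ^ 23 = 1) (h2 : y ≠ 1) {e : Finset GolayPt}
    (he : e ∈ GC) (h : y • e = e) : e = ∅ ∨ e = univ := by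
  haveI : Fact (Nat.Prime 23) := ⟨by norm_num⟩
  have h3 : orderOf y = 23 := orderOf_eq_prime h1 h2
  have h4 : y.IsCycle := Equiv.Perm.isCycle_of_prime_order' (by rw [h3]; norm_num)
    (by rw [h3, card_pt]; norm_num)
  have h5 := h4.orderOf
  obtain ⟨b, hb⟩ : y.support.Nonempty := card_pos.1 (by omega)
  refine empty_or_univ he (S := y.supportᶜ) (by rw [card_compl, card_pt]; omega) b fun x hx => ?_
  rw [mem_compl, not_not] at hx
  obtain ⟨n, hn⟩ := h4.exists_pow_eq (Equiv.Perm.mem_support.1 hb) (Equiv.Perm.mem_support.1 hx)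
  rw [← hn]
  exact mem_iff_of_smul (pow_smul_eq h n) b

theorem rh_pow {x : Co0} (hx : x ∈ NN) (n : ℕ) : rh (x ^ n) = rh x ^ n :=
  rho.map_pow ⟨x, hx⟩ n

theorem rh_one : rh 1 = 1 := rho.map_one

theorem rh_23 {x : Co0} (hx : x ∈ NN) (h1 : x ^ 23 = 1) (h2 : x ≠ 1) :
    rh x ^ 23 = 1 ∧ rh x ≠ 1 := by
  refine ⟨by rw [← rh_pow hx, h1, rh_one], fun h => h2 ?_⟩
  have h3 := EE_sq (mem_EE_of_rh hx h)
  rw [show 23 = 2 * 11 + 1 from rfl, pow_succ, pow_mul, sq, h3, one_pow, one_mul] at h1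
  exact h1

theorem pow_formula {x : Co0} (hx : x ∈ NN) {i : GolayPt} (hi : rh x i = i) {c : Finset GolayPt}
    (hc : c ∈ GC) (n : ℕ) :
    ∃ N ∈ GC, (sg c * x) ^ n = sg N * x ^ n ∧ (i ∈ N ↔ i ∈ c ∧ n % 2 = 1) := by
  induction n with
  | zero => exact ⟨∅, empty_mem_GC, by rw [pow_zero, pow_zero, sg_empty, mul_one], by simp⟩
  | succ n ih =>
    obtain ⟨N, hN, h1, h2⟩ := ih
    have h3 := smul_mem_GC (rh_mem hx) hN
    refine ⟨c ∆ (rh x • N), symmDiff_mem_GC hc h3, ?_, ?_⟩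
    · rw [pow_succ', h1, ← sg_mul hc h3, ← rh_conj hx hN]; group
    · have h4 : i ∈ rh x • N ↔ i ∈ N := by
        conv_lhs => rw [← hi]
        exact apply_mem_smul_iff _ _ _
      rw [mem_symmDiff, h4, h2]
      by_cases h5 : i ∈ c
      · simp only [h5, true_and, not_true, and_false, or_false]; omega
      · simp [h5]

theorem pow_23_iff {x : Co0} (hx : x ∈ NN) (h1 : x ^ 23 = 1) (h2 : x ≠ 1) {i : GolayPt}
    (hi : rh x i = i) {c : Finset GolayPt} (hc : c ∈ GC) : (sg c * x) ^ 23 = 1 ↔ i ∉ c := by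
  obtain ⟨N, hN, h3, h4⟩ := pow_formula hx hi hc 23
  rw [h1, mul_one] at h3
  simp only [Nat.reduceMod, and_true] at h4
  rw [← h4, h3]
  constructor
  · intro h
    rw [sg_inj hN empty_mem_GC (h.trans sg_empty.symm)]
    exact notMem_empty i
  · intro h
    have h5 : sg c * x * sg N = sg N * (sg c * x) := by
      rw [← h3]; exact (Commute.self_pow _ _).eq
    rw [← mul_assoc, ← sg_comm hc hN, mul_assoc, mul_assoc, mul_right_inj, ← mul_inv_eq_iff_eq_mul,
      rh_conj hx hN] at h5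
    obtain ⟨h6, h7⟩ := rh_23 hx h1 h2
    rcases inv_23 h6 h7 hN (sg_inj (smul_mem_GC (rh_mem hx) hN) hN h5) with h8 | h8
    · rw [h8, sg_empty]
    · exact absurd (h8 ▸ mem_univ i) h

end Cfsg.Lib.Dot0
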