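import Cfsg.Agent.Lib.Dot0.AutA

/-! Every automorphism of `Co0` is inner. -/

set_option autoImplicit false
set_option maxHeartbeats 400000

namespace Cfsg.Lib.Dot0

open Finset Cfsg.Lib.Leech
open scoped Pointwise symmDiff

/-- the translation -/
abbrev al : Equiv.Perm GolayPt := Golay.shiftPerm

/-- multiplication by two -/
def be : Equiv.Perm GolayPt where
  toFun := Option.map fun x => 2 * x
  invFun := Option.map fun x => 12 * x
  left_inv := by decide +kernel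
  right_inv := by decide +kernel

theorem be_mem : be ∈ M24 :=
  (show Golay.R 983435072843990828779021698901151808 be by
    unfold Golay.R PC.Rep; decide +kernel).mem_M24 (by decide +kernel)

theorem al_mem : al ∈ M24 := Golay.shift_mem_M24
theorem ga_mem : projInv ∈ M24 := Golay.projInv_mem_M24
theorem de_mem : cubeTwist ∈ M24 := Golay.cubeTwist_mem_M24

theorem al_pow : al ^ 23 = 1 := by decide +kernel
theorem al_ne : al ≠ 1 := by decide +kernel
theorem al_none : al none = none := rfl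
theorem al2_pow : (al ^ 2) ^ 23 = 1 := by decide +kernel
theorem al2_ne : al ^ 2 ≠ 1 := by decide +kernel
theorem be_pow : be ^ 11 = 1 := by decide +kernel
theorem be_al : be * al = al ^ 2 * be := by decide +kernel
theorem be3 : (be ^ 3) ^ 4 = be := by decide +kernel
theorem ga_be : projInv * be = be⁻¹ * projInv := by decide +kernel
theorem ga_sq : projInv * projInv = 1 := by decide +kernel
theorem ga_al : (projInv * al) ^ 3 = 1 := by decide +kernel
theorem be_orb : ∀ x : GolayPt, x ∉ ({none, some 0} : Finset GolayPt) →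
    ∃ n : Fin 11, x = (be ^ n.1) (some 1) ∨ x = (be ^ n.1) (projInv (some 1)) := by decide +kernel

theorem de_be : cubeTwist * be = be ^ 3 * cubeTwist := by
  have : ∀ x, cubeTwistFun (be x) = (be ^ 3) (cubeTwistFun x) := by decide +kernel
  exact Equiv.ext this

theorem de_pow : cubeTwist ^ 5 = 1 := by
  have : ∀ x, cubeTwistFun (cubeTwistFun (cubeTwistFun (cubeTwistFun (cubeTwistFun x)))) = x := by
    decide +kernel
  refine Equiv.ext fun x => ?_
  simp only [pow_succ, pow_zero, one_mul, Equiv.Perm.mul_apply, Equiv.Perm.one_apply]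
  exact this x

theorem de_orb (x : GolayPt) : ∃ n : Fin 11, cubeTwist x = (be ^ n.1) x := by
  have : ∀ x, ∃ n : Fin 11, cubeTwistFun x = (be ^ n.1) x := by decide +kernel
  exact this x

section Coc

variable {φ : Co0 ≃* Co0} {σ τ τ' : Equiv.Perm GolayPt} {e : Finset GolayPt}

theorem cocycle (hφ : ∀ c ∈ GC, φ (sg c) = sg c) (hσ : σ ∈ M24) :
    ∃ e ∈ GC, φ (pe σ) = sg e * pe σ := by
  obtain ⟨e, he, h⟩ : φ (pe σ) * (pe σ)⁻¹ ∈ EE := by
    refine cent_EE fun c hc => ?_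
    have h1 := smul_mem_GC (M24.inv_mem hσ) hc
    have h2 := pe_sg hσ h1
    rw [smul_inv_smul] at h2
    have h3 := congrArg φ h2
    rw [map_mul, map_mul, hφ _ h1, hφ _ hc] at h3
    rw [← mul_assoc, ← h3, mul_assoc, mul_assoc, mul_right_inj, eq_inv_mul_iff_mul_eq, ← mul_assoc, h2,
      mul_inv_cancel_right]
  exact ⟨e, he, by rw [← h, inv_mul_cancel_right]⟩

theorem coc_norm (hσ : σ ∈ M24) (hτ : τ ∈ M24) (hτ' : τ' ∈ M24) (he : e ∈ GC)
    (h : φ (pe σ) = sg e * pe σ) (h1 : φ (pe τ) = pe τ) (h2 : φ (pe τ') = pe τ')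
    (h3 : σ * τ = τ' * σ) : τ' • e = e := by
  have h4 : pe σ * pe τ = pe τ' * pe σ := by rw [pe_mul hσ hτ, pe_mul hτ' hσ, h3]
  have h5 := congrArg φ h4
  rw [map_mul, map_mul, h, h1, h2, mul_assoc, h4, ← mul_assoc, ← mul_assoc, mul_left_inj] at h5
  exact smul_eq_of_comm hτ' he h5.symm

theorem coc_odd (hσ : σ ∈ M24) (he : e ∈ GC) (h : φ (pe σ) = sg e * pe σ) (h1 : σ • e = e) {n : ℕ}
    (h2 : σ ^ (2 * n + 1) = 1) : φ (pe σ) = pe σ := by
  have h3 : Commute (sg e) (pe σ) := by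
    have := pe_sg hσ he
    rw [h1] at this
    exact this.symm
  have h4 : φ (pe σ) ^ (2 * n + 1) = 1 := by rw [← map_pow, pe_pow hσ, h2, pe_one, map_one]
  rw [h, h3.mul_pow, pe_pow hσ, h2, pe_one, mul_one, pow_succ, pow_mul, sq, sg_sq, one_pow,
    one_mul] at h4
  rw [h, h4, one_mul]

theorem smul_eu (σ : Equiv.Perm GolayPt) (h : e = ∅ ∨ e = univ) : σ • e = e := by
  rcases h with rfl | rfl
  · exact smul_finset_empty _
  · exact smul_finset_univ

theorem fix_pe (hφ : ∀ c ∈ GC, φ (sg c) = sg c) (ha : φ (pe al) = pe al) (hσ : σ ∈ M24) :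
    φ (pe σ) = pe σ := by
  have hpow : ∀ τ ∈ M24, φ (pe τ) = pe τ → ∀ n : ℕ, φ (pe (τ ^ n)) = pe (τ ^ n) := by
    intro τ hτ h n; rw [← pe_pow hτ, map_pow, h]
  have hinv : ∀ τ ∈ M24, φ (pe τ) = pe τ → φ (pe τ⁻¹) = pe τ⁻¹ := by
    intro τ hτ h; rw [← pe_inv hτ, map_inv, h]
  have hb : φ (pe be) = pe be := by
    obtain ⟨e, he, h⟩ := cocycle hφ be_mem
    have h1 := coc_norm be_mem al_mem (M24.pow_mem al_mem 2) he h ha (hpow _ al_mem ha 2) be_al
    exact coc_odd be_mem he h (smul_eu _ (inv_23 al2_pow al2_ne he h1)) (n := 5) be_pow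
  have hd : φ (pe cubeTwist) = pe cubeTwist := by
    obtain ⟨e, he, h⟩ := cocycle hφ de_mem
    have h1 := coc_norm de_mem be_mem (M24.pow_mem be_mem 3) he h hb (hpow _ be_mem hb 3) de_be
    have h2 := pow_smul_eq h1 4
    rw [be3] at h2
    refine coc_odd de_mem he h ?_ (n := 2) de_pow
    ext x
    obtain ⟨y, rfl⟩ := cubeTwist.surjective x
    rw [apply_mem_smul_iff]
    obtain ⟨n, hn⟩ := de_orb y
    rw [hn, mem_iff_of_smul (pow_smul_eq h2 n)]
  have hg : φ (pe projInv) = pe projInv := by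
    obtain ⟨e, he, h⟩ := cocycle hφ ga_mem
    have h1 := coc_norm ga_mem be_mem (M24.inv_mem be_mem) he h hb (hinv _ be_mem hb) ga_be
    rw [inv_smul_eq_iff] at h1
    have h2 : projInv • e = e := by
      have h3 : φ (pe projInv) * φ (pe projInv) = 1 := by
        rw [← map_mul, pe_mul ga_mem ga_mem, ga_sq, pe_one, map_one]
      rw [h, nm_mul he ga_mem he ga_mem, ga_sq, pe_one, mul_one, ← sg_empty] at h3
      exact (symmDiff_eq_bot.1 (sg_inj (symmDiff_mem_GC he (smul_mem_GC ga_mem he)) empty_mem_GC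
        h3)).symm
    have h4 := empty_or_univ he (S := {none, some 0}) (by decide) (some 1) fun x hx => by
      obtain ⟨n, rfl | rfl⟩ := be_orb x hx
      · exact mem_iff_of_smul (pow_smul_eq h1.symm n) _
      · rw [mem_iff_of_smul (pow_smul_eq h1.symm n), mem_iff_of_smul h2]
    have h5 : φ (pe (projInv * al)) = sg e * pe (projInv * al) := by
      rw [← pe_mul ga_mem al_mem, map_mul, h, ha, mul_assoc]
    have h6 := coc_odd (M24.mul_mem ga_mem al_mem) he h5 (smul_eu _ h4) (n := 1) ga_al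
    rw [← pe_mul ga_mem al_mem, map_mul, ha, mul_left_inj] at h6
    exact h6
  rw [← Golay.closure_eq_M24] at hσ
  have hle : ∀ τ ∈ Subgroup.closure {Golay.shiftPerm, projInv, cubeTwist}, τ ∈ M24 := fun τ h => by
    rwa [Golay.closure_eq_M24] at h
  induction hσ using Subgroup.closure_induction with
  | mem x hx =>
    rcases hx with rfl | rfl | rfl
    exacts [ha, hg, hd]
  | one => rw [pe_one, map_one]
  | mul x y hx hy h1 h2 => rw [← pe_mul (hle x hx) (hle y hy), map_mul, h1, h2]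
  | inv x hx h => exact hinv x (hle x hx) h

theorem pe_al_pow : pe al ^ 23 = 1 := by rw [pe_pow al_mem, al_pow, pe_one]

theorem pe_al_ne : pe al ≠ 1 := fun h => al_ne (pe_inj al_mem M24.one_mem (h.trans pe_one.symm))

theorem sd_aux {s t u v : Finset GolayPt} (h : s ∆ u = t ∆ v) : u ∆ v = s ∆ t := by
  have h1 : u = s ∆ (t ∆ v) := by rw [← h, symmDiff_symmDiff_cancel_left]
  rw [h1, symmDiff_assoc, symmDiff_symmDiff_cancel_right]

theorem adjust_al (hφ : ∀ c ∈ GC, φ (sg c) = sg c) :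
    ∃ d ∈ GC, φ (pe al) = sg d * pe al * (sg d)⁻¹ := by
  obtain ⟨e, he, h⟩ := cocycle hφ al_mem
  have h1 : none ∉ e := by
    rw [← pow_23_iff (pe_mem_NN al_mem) pe_al_pow pe_al_ne (by rw [rh_pe al_mem]; rfl) he, ← h,
      ← map_pow, pe_al_pow, map_one]
  have h2 : ∀ c : Finset GolayPt, none ∉ c → none ∉ c ∆ (al • c) := fun c hc h => by
    have : none ∉ al • c := fun h' => hc ((apply_mem_smul_iff al c none).1 h')
    simp [mem_symmDiff, hc, this] at h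
  let F : {c // c ∈ GC ∧ none ∉ c} → {c // c ∈ GC ∧ none ∉ c} := fun c =>
    ⟨c.1 ∆ (al • c.1), symmDiff_mem_GC c.2.1 (smul_mem_GC al_mem c.2.1), h2 _ c.2.2⟩
  have hF : Function.Injective F := by
    intro a b hab
    have h3 : a.1 ∆ (al • a.1) = b.1 ∆ (al • b.1) := congrArg Subtype.val hab
    have h4 : al • (a.1 ∆ b.1) = a.1 ∆ b.1 := by
      rw [Golay.smul_symmDiff_perm]
      exact sd_aux h3
    rcases inv_23 al_pow al_ne (symmDiff_mem_GC a.2.1 b.2.1) h4 with h5 | h5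
    · exact Subtype.ext (symmDiff_eq_bot.1 h5)
    · have : none ∈ a.1 ∆ b.1 := h5 ▸ mem_univ _
      simp [mem_symmDiff, a.2.2, b.2.2] at this
  obtain ⟨d, hd⟩ := Finite.surjective_of_injective hF ⟨e, he, h1⟩
  have h6 : d.1 ∆ (al • d.1) = e := congrArg Subtype.val hd
  refine ⟨d.1, d.2.1, ?_⟩
  rw [h, sg_inv, mul_assoc, pe_sg al_mem d.2.1, ← mul_assoc, sg_mul d.2.1 (smul_mem_GC al_mem d.2.1),
    h6]

theorem adjust_EE (hφ : ∀ x, φ x ∈ EE ↔ x ∈ EE) : ∃ π ∈ M24, ∀ c ∈ GC, φ (sg c) = sg (π • c) := by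
  have hN : ∀ x ∈ NN, φ x ∈ NN := fun x hx => norm_EE fun c hc => by
    obtain ⟨y, hy⟩ := φ.surjective (sg c)
    have h1 : y ∈ EE := (hφ y).1 (hy ▸ sg_mem_EE hc)
    have h2 := NN_conj (NN.inv_mem hx) h1
    rw [inv_inv] at h2
    rw [← hy, ← map_inv, ← map_mul, ← map_mul]
    exact (hφ _).2 h2
  have h1 : ∀ c, ∃ d, c ∈ GC → d ∈ GC ∧ φ (sg c) = sg d := fun c => by
    by_cases hc : c ∈ GC
    · obtain ⟨d, hd, h⟩ := (hφ _).2 (sg_mem_EE hc)
      exact ⟨d, fun _ => ⟨hd, h⟩⟩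
    · exact ⟨∅, fun h => absurd h hc⟩
  choose f hf using h1
  have h2 : ∀ j, ∃ i, ∀ c ∈ GC, (j ∉ c ↔ i ∉ f c) := by
    intro j
    obtain ⟨w, hw, hwj⟩ := Golay.M24_trans_one none j
    have h3 : pe w * pe al * (pe w)⁻¹ ∈ NN :=
      NN.mul_mem (NN.mul_mem (pe_mem_NN hw) (pe_mem_NN al_mem)) (NN.inv_mem (pe_mem_NN hw))
    have h4 : (pe w * pe al * (pe w)⁻¹) ^ 23 = 1 := by rw [conj_pow, pe_al_pow]; group
    have h5 : pe w * pe al * (pe w)⁻¹ ≠ 1 := fun h => pe_al_ne (by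
      rwa [mul_inv_eq_one, mul_eq_left] at h)
    have h6 : rh (pe w * pe al * (pe w)⁻¹) j = j := by
      rw [pe_inv hw, pe_mul hw al_mem, pe_mul (M24.mul_mem hw al_mem) (M24.inv_mem hw),
        rh_pe (M24.mul_mem (M24.mul_mem hw al_mem) (M24.inv_mem hw)), ← hwj]
      simp only [Equiv.Perm.mul_apply, Equiv.Perm.coe_inv, Equiv.symm_apply_apply, al_none]
    generalize pe w * pe al * (pe w)⁻¹ = x at h3 h4 h5 h6
    have h7 : φ x ^ 23 = 1 := by rw [← map_pow, h4, map_one]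
    have h8 : φ x ≠ 1 := fun h => h5 (φ.map_eq_one_iff.1 h)
    haveI : Fact (Nat.Prime 23) := ⟨by norm_num⟩
    obtain ⟨i, hi⟩ := Equiv.Perm.exists_fixed_point_of_prime (p := 23) (n := 1) (σ := rh (φ x))
      (by rw [card_pt]; norm_num) (by rw [pow_one]; exact (rh_23 (hN x h3) h7 h8).1)
    refine ⟨i, fun c hc => ?_⟩
    rw [← pow_23_iff h3 h4 h5 h6 hc, ← pow_23_iff (hN x h3) h7 h8 hi (hf c hc).1, ← (hf c hc).2,
      ← map_mul, ← map_pow, φ.map_eq_one_iff]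
  choose p hp using h2
  have h3 : Function.Injective p := by
    intro j k hjk
    by_contra hne
    obtain ⟨c, hc, h4, h5⟩ := exists_sep hne
    exact (hp k c hc).2 (hjk ▸ (hp j c hc).1 h4) h5
  let π : Equiv.Perm GolayPt := Equiv.ofBijective p (Finite.injective_iff_bijective.1 h3)
  have h4 : ∀ c ∈ GC, π • c = f c := by
    intro c hc
    ext x
    obtain ⟨y, rfl⟩ := π.surjective x
    rw [apply_mem_smul_iff]
    exact not_iff_not.1 (hp y c hc)
  exact ⟨π, mem_M24_of_smul fun c hc => by rw [h4 c hc]; exact (hf c hc).1,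
    fun c hc => by rw [h4 c hc, (hf c hc).2]⟩

end Coc

/-- every automorphism of `Co0` is inner -/
theorem aut_inner (φ : Co0 ≃* Co0) : ∃ a : Co0, ∀ x, φ x = a * x * a⁻¹ := by
  obtain ⟨g, hg⟩ := conj_EE (F := EE.map φ.toMonoidHom)
    (by rintro _ ⟨x, hx, rfl⟩; rw [← map_mul, EE_sq hx, map_one])
    (by rw [Subgroup.card_map_of_injective φ.injective, card_EE])
  obtain ⟨π, hπ, h1⟩ := adjust_EE (φ := φ.trans (MulAut.conj g)) fun x => by
    show g * φ x * g⁻¹ ∈ EE ↔ _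
    rw [← hg]
    exact ⟨fun ⟨y, hy, h⟩ => by rwa [← φ.injective h], fun h => ⟨x, h, rfl⟩⟩
  have h2 : ∀ c ∈ GC, φ.trans (MulAut.conj ((pe π)⁻¹ * g)) (sg c) = sg c := fun c hc => by
    have h3 : g * φ (sg c) * g⁻¹ = sg (π • c) := h1 c hc
    show (pe π)⁻¹ * g * φ (sg c) * ((pe π)⁻¹ * g)⁻¹ = sg c
    rw [← pe_conj hπ hc] at h3
    calc _ = (pe π)⁻¹ * (g * φ (sg c) * g⁻¹) * pe π := by group
      _ = sg c := by rw [h3]; group
  obtain ⟨d, hd, h3⟩ := adjust_al h2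
  have h4 : ∀ c ∈ GC, φ.trans (MulAut.conj ((sg d)⁻¹ * ((pe π)⁻¹ * g))) (sg c) = sg c := fun c hc => by
    have h5 : (pe π)⁻¹ * g * φ (sg c) * ((pe π)⁻¹ * g)⁻¹ = sg c := h2 c hc
    show (sg d)⁻¹ * ((pe π)⁻¹ * g) * φ (sg c) * ((sg d)⁻¹ * ((pe π)⁻¹ * g))⁻¹ = sg c
    calc _ = (sg d)⁻¹ * ((pe π)⁻¹ * g * φ (sg c) * ((pe π)⁻¹ * g)⁻¹) * sg d := by group
      _ = sg c := by rw [h5, mul_assoc, sg_comm hc hd, inv_mul_cancel_left]
  have h5 : φ.trans (MulAut.conj ((sg d)⁻¹ * ((pe π)⁻¹ * g))) (pe al) = pe al := by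
    have h5 : (pe π)⁻¹ * g * φ (pe al) * ((pe π)⁻¹ * g)⁻¹ = sg d * pe al * (sg d)⁻¹ := h3
    show (sg d)⁻¹ * ((pe π)⁻¹ * g) * φ (pe al) * ((sg d)⁻¹ * ((pe π)⁻¹ * g))⁻¹ = pe al
    calc _ = (sg d)⁻¹ * ((pe π)⁻¹ * g * φ (pe al) * ((pe π)⁻¹ * g)⁻¹) * sg d := by group
      _ = pe al := by rw [h5]; group
  refine ⟨((sg d)⁻¹ * ((pe π)⁻¹ * g))⁻¹, fun x => ?_⟩
  have h6 : (sg d)⁻¹ * ((pe π)⁻¹ * g) * φ x * ((sg d)⁻¹ * ((pe π)⁻¹ * g))⁻¹ = x :=
    aut_eq_of_fix (φ := φ.trans (MulAut.conj ((sg d)⁻¹ * ((pe π)⁻¹ * g)))) (by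
      rintro _ ⟨c, hc, σ, hσ, rfl⟩
      rw [map_mul, h4 c hc, fix_pe h4 h5 hσ]) x
  generalize (sg d)⁻¹ * ((pe π)⁻¹ * g) = a at h6 ⊢
  calc φ x = a⁻¹ * (a * φ x * a⁻¹) * a⁻¹⁻¹ := by group
    _ = _ := by rw [h6]

end Cfsg.Lib.Dot0
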