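import Cfsg.Agent.Lib.Leech.SimpleD

/-! Facts on the Golay code and on involutions of `M24` used for the local structure of `Co0`. -/

set_option autoImplicit false
set_option maxHeartbeats 400000

namespace Cfsg.Lib.Dot0

open Finset Cfsg.Lib.Leech
open scoped Pointwise symmDiff

theorem eight_le_of_ne {c : Finset GolayPt} (hc : c ∈ GC) (h : c ≠ ∅) : 8 ≤ c.card := by
  by_contra h1
  exact h (gc_eq_empty_of_lt hc (by omega))

theorem exists_single {S : Finset GolayPt} (hS : S.card ≤ 7) {j : GolayPt} (hj : j ∈ S) :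
    ∃ c ∈ GC, c ∩ S = {j} := by
  by_contra hcon
  push Not at hcon
  let L : GolayPt → golayCode →ₗ[ZMod 2] ZMod 2 := fun k => (LinearMap.proj k).comp golayCode.subtype
  have h1 : L j ∈ Submodule.span (ZMod 2) (Set.range fun k : ↥(S.erase j) => L k) := by
    refine mem_span_of_iInf_ker_le_ker fun w hw => ?_
    simp only [Submodule.mem_iInf, LinearMap.mem_ker] at hw ⊢
    by_contra h2
    refine hcon (support₂ w.1) (support_mem_GC_iff.2 w.2) ?_
    ext k
    simp only [support₂, mem_inter, mem_filter, mem_univ, true_and, mem_singleton]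
    constructor
    · rintro ⟨h3, h4⟩
      by_contra h5
      exact h3 (hw ⟨k, mem_erase.2 ⟨h5, h4⟩⟩)
    · rintro rfl
      exact ⟨h2, hj⟩
  obtain ⟨a, ha⟩ := (Submodule.mem_span_range_iff_exists_fun (ZMod 2)).1 h1
  let w : GolayPt → ZMod 2 := fun k => if h : k ∈ S.erase j then a ⟨k, h⟩ else if k = j then 1 else 0
  have hw : w ∈ golayCode := by
    refine Golay.mem_golay_of_dot_eq_zero fun c hc => ?_
    have h2 := LinearMap.congr_fun ha ⟨c, hc⟩
    simp only [LinearMap.coe_sum, Finset.sum_apply, LinearMap.smul_apply, smul_eq_mul] at h2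
    have h3 : ∑ i, c i * w i = ∑ i ∈ S.erase j, c i * w i + c j := by
      rw [← Finset.sum_subset (subset_univ S), ← Finset.sum_erase_add _ _ hj]
      · simp [w]
      · intro x _ hx
        have : x ≠ j := fun h => hx (h ▸ hj)
        simp [w, hx, this]
    have h4 : ∑ i ∈ S.erase j, c i * w i = c j := by
      rw [← Finset.sum_coe_sort]
      refine Eq.trans (Finset.sum_congr rfl fun x _ => ?_) h2
      simp only [w, x.2, dif_pos]
      exact mul_comm _ _
    rw [h3, h4]
    exact CharTwo.add_self_eq_zero _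
  have h5 : support₂ w ⊆ S := by
    intro k hk
    simp only [support₂, mem_filter, mem_univ, true_and] at hk
    by_contra h
    have : k ≠ j := fun e => h (e ▸ hj)
    simp [w, h, this] at hk
  have h6 : j ∈ support₂ w := by simp [support₂, w]
  have := eight_le_of_ne (support_mem_GC_iff.2 hw) (ne_empty_of_mem h6)
  have := card_le_card h5
  omega

theorem exists_pattern {S : Finset GolayPt} (hS : S.card ≤ 7) (P : Finset GolayPt) (hP : P ⊆ S) :
    ∃ c ∈ GC, c ∩ S = P := by
  induction P using Finset.induction_on with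
  | empty => exact ⟨∅, empty_mem_GC, by simp⟩
  | insert j P hj ih =>
    obtain ⟨c, hc, h1⟩ := ih ((subset_insert _ _).trans hP)
    obtain ⟨d, hd, h2⟩ := exists_single hS (hP (mem_insert_self _ _))
    refine ⟨c ∆ d, symmDiff_mem_GC hc hd, ?_⟩
    ext k
    have h3 := Finset.ext_iff.1 h1 k
    have h4 := Finset.ext_iff.1 h2 k
    simp only [mem_inter, mem_symmDiff, mem_singleton, mem_insert] at h3 h4 ⊢
    by_cases e : k = j
    · subst e; tauto
    · tauto

theorem even_card_of_inv {α : Type*} {π : Equiv.Perm α} (h2 : π * π = 1) (s : Finset α)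
    (hs : ∀ x ∈ s, π x ∈ s) (h : ∀ x ∈ s, π x ≠ x) : Even s.card := by
  have h1 : ∑ _x ∈ s, (1 : ZMod 2) = 0 :=
    Finset.sum_involution (fun x _ => π x) (fun _ _ => by decide) (fun x hx _ => h x hx) hs
      fun x _ => by rw [← Equiv.Perm.mul_apply, h2]; rfl
  rw [Finset.sum_const, nsmul_eq_mul, mul_one] at h1
  exact (ZMod.natCast_eq_zero_iff_even).1 h1

/-- the fixed points of a permutation -/
def fixS (π : Equiv.Perm GolayPt) : Finset GolayPt := univ.filter fun i => π i = i

@[simp] theorem mem_fixS {π : Equiv.Perm GolayPt} {i : GolayPt} : i ∈ fixS π ↔ π i = i := by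
  simp [fixS]

theorem app_app {π : Equiv.Perm GolayPt} (h2 : π * π = 1) (i : GolayPt) : π (π i) = i := by
  rw [← Equiv.Perm.mul_apply, h2]; rfl

theorem mem_smul_inv {π : Equiv.Perm GolayPt} (h2 : π * π = 1) (c : Finset GolayPt) (i : GolayPt) :
    i ∈ π • c ↔ π i ∈ c := by
  rw [mem_smul_iff, inv_eq_of_mul_eq_one_right h2]

/-- an invariant set meets the fixed points in a set of the same parity -/
theorem even_sub_fix {π : Equiv.Perm GolayPt} (h2 : π * π = 1) {s : Finset GolayPt}
    (hs : ∀ x ∈ s, π x ∈ s) : s.card % 2 = (s ∩ fixS π).card % 2 := by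
  have h1 := even_card_of_inv h2 (s \ fixS π) (fun x hx => by
    simp only [mem_sdiff, mem_fixS] at hx ⊢
    exact ⟨hs x hx.1, fun h => hx.2 (π.injective h)⟩) fun x hx => by
    simp only [mem_sdiff, mem_fixS] at hx; exact hx.2
  have h3 := card_sdiff_add_card_inter s (fixS π)
  obtain ⟨k, hk⟩ := h1
  omega

theorem fix_mem_GC {π : Equiv.Perm GolayPt} (hπ : π ∈ M24) (h2 : π * π = 1) : fixS π ∈ GC := by
  refine gc_self_dual fun c hc => ?_
  have h1 := gc_inter_even hc (smul_mem_GC hπ hc)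
  have h3 := even_sub_fix h2 (s := c ∩ π • c) fun x hx => by
    rw [mem_inter, mem_smul_inv h2] at hx ⊢
    exact ⟨hx.2, by rw [app_app h2]; exact hx.1⟩
  have h4 : c ∩ π • c ∩ fixS π = c ∩ fixS π := by
    ext x
    simp only [mem_inter, mem_smul_inv h2, mem_fixS]
    constructor
    · tauto
    · rintro ⟨h5, h6⟩; exact ⟨⟨h5, by rwa [h6]⟩, h6⟩
  rw [h4] at h3
  exact Nat.even_iff.2 (by omega)

theorem card_fix {π : Equiv.Perm GolayPt} (hπ : π ∈ M24) (h2 : π * π = 1) (h1 : π ≠ 1) :
    (fixS π).card = 0 ∨ (fixS π).card = 8 := by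
  have hF := fix_mem_GC hπ h2
  have hc := compl_mem_GC hF
  obtain ⟨i, hi⟩ : ∃ i, π i ≠ i := by
    by_contra h; push Not at h; exact h1 (Equiv.ext h)
  have h8 := eight_le_of_ne hc (ne_empty_of_mem (a := i) (by simpa using hi))
  obtain ⟨k, hk, hk'⟩ := exists_mem_notMem_of_card_lt_card (s := {i, π i}) (t := (fixS π)ᶜ)
    (lt_of_le_of_lt card_le_two (by omega))
  simp only [mem_insert, mem_singleton, not_or, mem_compl, mem_fixS] at hk hk'
  obtain ⟨c, hc1, hc2⟩ := exists_single (S := {i, π i, k, π k}) (card_le_four.trans (by norm_num))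
    (j := i) (by simp)
  have e := fun x => Finset.ext_iff.1 hc2 x
  simp only [mem_inter, mem_insert, mem_singleton] at e
  have a1 : i ∈ c := ((e i).2 rfl).1
  have a2 : π i ∉ c := fun h => hi ((e _).1 ⟨h, by simp⟩)
  have a3 : k ∉ c := fun h => hk'.1 ((e _).1 ⟨h, by simp⟩)
  have a4 : π k ∉ c := fun h => hk'.2 (by rw [← (e _).1 ⟨h, by simp⟩, app_app h2])
  have hw := symmDiff_mem_GC hc1 (smul_mem_GC hπ hc1)
  have hsub : c ∆ (π • c) ⊆ (fixS π)ᶜ := fun x hx => by
    simp only [mem_symmDiff, mem_smul_inv h2, mem_compl, mem_fixS] at hx ⊢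
    intro h; rw [h] at hx; tauto
  have b1 := eight_le_of_ne hw (ne_empty_of_mem (a := i) (by
    simp only [mem_symmDiff, mem_smul_inv h2]; tauto))
  have b2 := eight_le_of_ne (symmDiff_mem_GC hw hc) (ne_empty_of_mem (a := k) (by
    simp only [mem_symmDiff, mem_smul_inv h2, mem_compl, mem_fixS]; tauto))
  have b3 := card_symmDiff_add (c ∆ (π • c)) (fixS π)ᶜ
  rw [inter_eq_left.2 hsub, card_compl_pt] at b3
  have := gc_card hF
  omega

theorem exists_small_subset {ι : Type*} [DecidableEq ι] (s : Finset ι) (w : ι → ℕ) (k : ℕ) (hk : k ≤ s.card) :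
    ∃ t ⊆ s, t.card = k ∧ s.card * ∑ i ∈ t, w i ≤ k * ∑ i ∈ s, w i := by
  induction k with
  | zero => exact ⟨∅, empty_subset _, rfl, by simp⟩
  | succ k ih =>
    obtain ⟨t, ht, h1, h2⟩ := ih (by omega)
    have h3 : (s \ t).card = s.card - k := by rw [card_sdiff_of_subset ht, h1]
    obtain ⟨a, ha, hmin⟩ := exists_min_image (s \ t) w (card_pos.1 (by omega))
    have h4 : (s \ t).card * w a ≤ ∑ i ∈ s \ t, w i := by
      simpa using card_nsmul_le_sum (s \ t) w (w a) hmin
    have h5 := sum_sdiff (f := w) ht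
    rw [mem_sdiff] at ha
    refine ⟨insert a t, insert_subset ha.1 ht, by rw [card_insert_of_notMem ha.2, h1], ?_⟩
    rw [sum_insert ha.2]
    obtain ⟨d, hd⟩ : ∃ d, s.card = k + 1 + d := ⟨s.card - (k + 1), by omega⟩
    rw [h3] at h4
    rw [hd] at h2 h4 ⊢
    have h6 : k + 1 + d - k = d + 1 := by omega
    rw [h6] at h4
    generalize ∑ i ∈ t, w i = T at *
    generalize ∑ i ∈ s \ t, w i = U at *
    rw [← h5] at h2 ⊢
    have : (d + 1) * ((k + 1 + d) * (w a + T)) ≤ (d + 1) * ((k + 1) * (U + T)) := by nlinarith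
    exact Nat.le_of_mul_le_mul_left this (by omega)

end Cfsg.Lib.Dot0
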