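import Cfsg.Agent.Lib.Dot0.Code

/-! The Golay code is not a failure of factorization module for `M24`. -/

set_option autoImplicit false
set_option maxHeartbeats 400000

namespace Cfsg.Lib.Dot0

open Finset Cfsg.Lib.Leech MulAction
open scoped Pointwise symmDiff

open Classical in
theorem burnside (B : Subgroup (Equiv.Perm GolayPt)) :
    Fintype.card (orbitRel.Quotient B GolayPt) * Nat.card B = 24 + ∑ b ∈ univ.erase (1 : B), (fixS b.1).card := by
  rw [Nat.card_eq_fintype_card, ← sum_card_fixedBy_eq_card_orbits_mul_card_group, ← add_sum_erase _ _ (mem_univ 1)]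
  have h : ∀ b : B, Fintype.card (fixedBy GolayPt b) = (fixS b.1).card := fun b => by
    rw [← Fintype.card_coe]
    exact Fintype.card_congr (Equiv.subtypeEquivRight fun x => by
      rw [mem_fixS, mem_fixedBy]; rfl)
  simp only [h]
  have : fixS (1 : B).1 = univ := by ext; simp
  rw [this, card_univ, card_pt]

variable {B : Subgroup (Equiv.Perm GolayPt)}

theorem card_dvd_of_fix (hB : B ≤ M24) (h2 : ∀ b ∈ B, b * b = 1) {i : GolayPt} (hi : ∀ b ∈ B, b i = i) :
    Nat.card B ≤ 16 := by
  classical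
  have h := burnside B
  rw [sum_congr rfl (g := fun _ => 8) fun b hb => (card_fix (hB b.2) (h2 _ b.2) fun e =>
    (mem_erase.1 hb).1 (Subtype.ext e)).resolve_left (card_ne_zero.2 ⟨i, mem_fixS.2 (hi _ b.2)⟩)] at h
  rw [sum_const, card_erase_of_mem (mem_univ _), card_univ, ← Nat.card_eq_fintype_card (α := B), smul_eq_mul] at h
  have h0 : 0 < Nat.card B := Nat.card_pos
  generalize Fintype.card (orbitRel.Quotient B GolayPt) = r at h
  obtain ⟨n, hn⟩ : ∃ n, Nat.card B = n + 1 := ⟨Nat.card B - 1, by omega⟩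
  rw [hn] at h ⊢
  simp only [add_tsub_cancel_right] at h
  by_contra h1
  rcases le_or_gt r 8 with h3 | h3 <;> nlinarith

theorem ff_bound (hB : B ≤ M24) (h2 : ∀ b ∈ B, b * b = 1) (hne : B ≠ ⊥) :
    Nat.card B * {c | c ∈ GC ∧ ∀ b ∈ B, b • c = c}.ncard < 4096 := by
  classical
  let q : GolayPt → orbitRel.Quotient B GolayPt := Quotient.mk _
  let w : orbitRel.Quotient B GolayPt → ℕ := fun ω => (univ.filter fun i => q i = ω).card
  have hw : ∑ ω, w ω = 24 := by
    rw [← card_eq_sum_card_fiberwise (s := univ) (t := univ) (f := q) (fun _ _ => mem_univ _), card_univ, card_pt]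
  have hq : ∀ i j, q i = q j ↔ ∃ b ∈ B, b j = i := fun i j => by
    rw [Quotient.eq, orbitRel_apply, mem_orbit_iff]
    exact ⟨fun ⟨b, h⟩ => ⟨b.1, b.2, h⟩, fun ⟨b, hb, h⟩ => ⟨⟨b, hb⟩, h⟩⟩
  obtain ⟨r, hr⟩ : ∃ r, r = Fintype.card (orbitRel.Quotient B GolayPt) := ⟨_, rfl⟩
  set W := {c | c ∈ GC ∧ ∀ b ∈ B, b • c = c} with hW
  have bound : ∀ t : Finset (orbitRel.Quotient B GolayPt), ∑ ω ∈ t, w ω ≤ 7 → W.ncard ≤ 2 ^ (r - t.card) := by
    intro t ht
    have h1 : 2 ^ (r - t.card) = (↑(univ \ t).powerset : Set (Finset (orbitRel.Quotient B GolayPt))).ncard := by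
      rw [Set.ncard_coe_finset, card_powerset, card_univ_diff, hr]
    rw [h1]
    refine Set.ncard_le_ncard_of_injOn (fun c => c.image q \ t) (fun c _ => ?_) ?_
    · exact mem_coe.2 (mem_powerset.2 (sdiff_subset_sdiff (subset_univ _) subset_rfl))
    · have key : ∀ c ∈ W, ∀ d ∈ W, c.image q \ t = d.image q \ t → ∀ x ∈ c, x ∉ d → q x ∈ t := by
        intro c _ d hd e x hx hx'
        by_contra h
        have : q x ∈ d.image q \ t := e ▸ mem_sdiff.2 ⟨mem_image_of_mem _ hx, h⟩
        obtain ⟨y, hy, e'⟩ := mem_image.1 (mem_sdiff.1 this).1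
        obtain ⟨b, hb, rfl⟩ := (hq _ _).1 e'.symm
        exact hx' (by rw [← hd.2 b hb, apply_mem_smul_iff]; exact hy)
      intro c hc d hd e
      have h3 : c ∆ d ⊆ univ.filter fun i => q i ∈ t := fun x hx => by
        rw [mem_filter]
        refine ⟨mem_univ _, ?_⟩
        rcases mem_symmDiff.1 hx with h | h
        · exact key c hc d hd e x h.1 h.2
        · exact key d hd c hc e.symm x h.1 h.2
      have h4 : (univ.filter fun i => q i ∈ t).card = ∑ ω ∈ t, w ω := by
        rw [card_eq_sum_card_fiberwise (t := t) (f := q) (fun x hx => by simpa using hx)]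
        refine sum_congr rfl fun ω hω => ?_
        refine congrArg Finset.card (Finset.ext fun x => ?_)
        simp only [mem_filter, mem_univ, true_and]
        exact ⟨fun h => h.2, fun h => ⟨h ▸ hω, h⟩⟩
      have h6 : (c ∆ d).card < 8 := Nat.lt_succ_of_le (((card_le_card h3).trans h4.le).trans ht)
      exact symmDiff_eq_bot.1 (gc_eq_empty_of_lt (symmDiff_mem_GC hc.1 hd.1) h6)
  have key : ∀ k, k ≤ r → 24 * k < 8 * r → W.ncard ≤ 2 ^ (r - k) := by
    intro k hk h
    obtain ⟨t, -, h3, h4⟩ := exists_small_subset univ w k (by rw [card_univ, ← hr]; exact hk)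
    rw [← h3]
    refine bound t ?_
    rw [card_univ, ← hr, hw] at h4
    by_contra h5
    nlinarith
  have hos : ∀ i, w (q i) * Nat.card (stabilizer B i) = Nat.card B := fun i => by
    rw [← (stabilizer B i).index_mul_card, index_stabilizer]
    refine congrArg (· * _) ((Set.ncard_coe_finset _).symm.trans (congrArg Set.ncard (Set.ext fun x => ?_)))
    simp only [coe_filter, mem_univ, true_and, Set.mem_setOf_eq, hq, mem_orbit_iff]
    exact ⟨fun ⟨b, hb, h⟩ => ⟨⟨b, hb⟩, h⟩, fun ⟨b, h⟩ => ⟨b.1, b.2, h⟩⟩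
  have hst : ∀ i, Nat.card (stabilizer B i) ≤ 16 := fun i => by
    rw [← Subgroup.card_map_of_injective B.subtype_injective]
    refine card_dvd_of_fix ((Subgroup.map_subtype_le _).trans hB)
      (fun b hb => h2 b (Subgroup.map_subtype_le _ hb)) (i := i) ?_
    rintro _ ⟨b, hb, rfl⟩
    exact hb
  have hP : IsPGroup 2 B := fun b => ⟨1, Subtype.ext (by simpa [sq] using h2 b.1 b.2)⟩
  obtain ⟨b, hb⟩ := IsPGroup.iff_card.1 hP
  have hb0 : b ≠ 0 := by
    rintro rfl
    exact hne (Subgroup.card_eq_one.1 hb)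
  have hbr : r * Nat.card B ≤ 16 + 8 * Nat.card B := by
    have h := burnside B
    have h3 : ∑ b ∈ univ.erase (1 : B), (fixS b.1).card ≤ (univ.erase (1 : B)).card • 8 :=
      sum_le_card_nsmul _ _ _ fun b hb => by
        have := card_fix (hB b.2) (h2 _ b.2) fun e => (mem_erase.1 hb).1 (Subtype.ext e)
        omega
    rw [card_erase_of_mem (mem_univ _), card_univ, ← Nat.card_eq_fintype_card (α := B), smul_eq_mul] at h3
    have h0 : 0 < Nat.card B := Nat.card_pos
    rw [← hr] at h
    omega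
  have hlow : r * Nat.card B ≤ 16 * 24 := by
    rw [← hw, mul_sum, hr, ← card_univ, ← smul_eq_mul]
    rw [← sum_const]
    refine sum_le_sum fun ω _ => ?_
    obtain ⟨i, rfl⟩ := Quotient.exists_rep ω
    rw [← hos i, mul_comm]
    exact Nat.mul_le_mul_right _ (hst i)
  have hr0 : 0 < r := by rw [hr]; exact Fintype.card_pos
  have fin : ∀ k, b ≤ 11 → W.ncard ≤ 2 ^ k → k ≤ 11 - b → Nat.card B * W.ncard < 4096 := by
    intro k h1 h3 h4
    calc Nat.card B * W.ncard ≤ 2 ^ b * 2 ^ (11 - b) := by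
          rw [hb]; exact Nat.mul_le_mul_left _ (h3.trans (Nat.pow_le_pow_right (by norm_num) h4))
      _ = 2 ^ 11 := by rw [← pow_add, Nat.add_sub_cancel' h1]
      _ < 4096 := by norm_num
  by_cases h8 : 8 ≤ b
  · exfalso
    have h3 : 2 ^ 8 ≤ Nat.card B := by rw [hb]; exact Nat.pow_le_pow_right (by norm_num) h8
    have h4 : r = 1 := by
      by_contra h5
      have := (Nat.mul_le_mul (show 2 ≤ r by omega) h3).trans hlow
      norm_num at this
    have h5 : w (q none) = 24 := by
      rw [← hw]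
      obtain ⟨x, hx⟩ := Fintype.card_eq_one_iff.1 (hr.symm.trans h4)
      rw [sum_eq_single (q none) (fun b _ h => absurd ((hx b).trans (hx _).symm) h) (by simp)]
    have h6 := hos none
    rw [h5, hb] at h6
    have : 3 ∣ 2 ^ b := ⟨8 * Nat.card (stabilizer B none), by omega⟩
    have := (Nat.Prime.dvd_of_dvd_pow Nat.prime_three this)
    omega
  by_cases h1 : b = 1 ∧ 14 < r
  · obtain ⟨rfl, h1⟩ := h1
    have h := burnside B
    rw [← hr, hb] at h
    obtain ⟨π, hπ, hπ'⟩ : ∃ π ∈ univ.erase (1 : B), (fixS π.1).card ≠ 0 := by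
      by_contra h3
      push Not at h3
      rw [sum_eq_zero h3] at h
      omega
    have hπ1 := (mem_erase.1 hπ).1
    have h4 := (card_fix (hB π.2) (h2 _ π.2) fun e => hπ1 (Subtype.ext e)).resolve_left hπ'
    have hall : ∀ x ∈ B, x = 1 ∨ x = π.1 := fun x hx => by
      obtain ⟨y, -, hy⟩ := (Nat.card_eq_two_iff' (1 : B)).1 hb
      by_cases e : (⟨x, hx⟩ : B) = 1
      · exact Or.inl (congrArg Subtype.val e)
      · exact Or.inr (congrArg Subtype.val ((hy _ e).trans (hy _ hπ1).symm))
    obtain ⟨T, hT, hT6⟩ := exists_subset_card_eq (s := fixS π.1) (n := 6) (by omega)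
    have hinj : ∀ x ∈ T, ∀ y, q y = q x → y = x := fun x hx y e => by
      obtain ⟨g, hg, rfl⟩ := (hq _ _).1 e
      rcases hall g hg with rfl | rfl
      · rfl
      · exact mem_fixS.1 (hT hx)
    have h5 : (T.image q).card = 6 := by
      rw [card_image_of_injOn fun x hx y _ e => (hinj x hx y e.symm).symm, hT6]
    refine fin _ (by norm_num) (bound (T.image q) ?_) (by rw [h5]; rw [hb] at hbr; omega)
    refine (sum_le_card_nsmul _ _ 1 fun ω hω => ?_).trans (by rw [h5]; norm_num)
    obtain ⟨x, hx, rfl⟩ := mem_image.1 hω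
    exact card_le_one.2 fun a ha b hb =>
      (hinj x hx a (mem_filter.1 ha).2).trans (hinj x hx b (mem_filter.1 hb).2).symm
  refine fin _ (by omega) (key (r - (11 - b)) (by omega) ?_) (by omega)
  rw [hb] at hbr hlow
  have : b < 8 := by omega
  interval_cases b <;> omega

end Cfsg.Lib.Dot0
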