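import Cfsg.Agent.Lib.Dot0.Mono

/-! Vectors of shape `(±4)^4` and the coordinate frames they determine; generation of `Co0`. -/

set_option autoImplicit false
set_option maxHeartbeats 400000

namespace Cfsg.Lib.Dot0

open Finset Cfsg.Lib.Leech
open scoped Pointwise symmDiff

theorem sum_ind_mul (T : Finset GolayPt) (f : GolayPt → ℤ) : ∑ k, ind T k * f k = ∑ k ∈ T, f k := by
  simp [ind]

theorem sum_ind_ind (T M : Finset GolayPt) : ∑ k, ind T k * ind M k = (M ∩ T).card := by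
  rw [← sum_ind]
  refine Finset.sum_congr rfl fun k _ => ?_
  by_cases h : k ∈ T <;> by_cases h' : k ∈ M <;> simp [ind, h, h']

/-- the vector with entries `±4` on the tetrad `T`, the minus signs being on `M` -/
def tv (T M : Finset GolayPt) : leechLattice :=
  if h : T.card = 4 then
    ⟨fun k => 4 * (ind T k * sgn M k), even_mem empty_mem_GC (fun k => ind T k * sgn M k)
      (by
        have := sum_sgn_mul_mod M (ind T)
        rw [sum_ind, h] at this
        simp only [mul_comm (ind T _)]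
        rw [this]; rfl) fun k => by simp [ind]⟩
  else 0

variable {T M T' M' : Finset GolayPt}

theorem tv_apply (h : T.card = 4) (M : Finset GolayPt) (k : GolayPt) :
    (tv T M).1 k = 4 * (ind T k * sgn M k) := by
  unfold tv; rw [dif_pos h]

theorem tv_in (h : T.card = 4) (M : Finset GolayPt) {k : GolayPt} (hk : k ∈ T) :
    (tv T M).1 k = 4 * sgn M k := by rw [tv_apply h]; simp [ind, hk]

theorem tv_out (h : T.card = 4) (M : Finset GolayPt) {k : GolayPt} (hk : k ∉ T) :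
    (tv T M).1 k = 0 := by rw [tv_apply h]; simp [ind, hk]

theorem dt_tv (h : T.card = 4) (M : Finset GolayPt) (x : leechLattice) :
    dt x (tv T M) = 4 * ∑ k ∈ T, sgn M k * x.1 k := by
  rw [← sum_ind_mul, Finset.mul_sum]
  exact Finset.sum_congr rfl fun k _ => by rw [tv_apply h]; ring

theorem nrm_tv (h : T.card = 4) (M : Finset GolayPt) : nrm (tv T M) = 64 := by
  rw [← dt_self, dt_tv h, Finset.sum_congr rfl (g := fun _ => 4) fun k hk => by
    rw [tv_in h M hk]; linear_combination 4 * sgn_mul_self M k]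
  simp [h]

theorem tv_cong (h : T.card = 4) (h' : T'.card = 4) (hc : T ∆ T' ∈ GC)
    (hp : (M ∩ T).card % 2 = (M' ∩ T').card % 2) : ∃ w, tv T M - tv T' M' = w + w := by
  have h1 : (T' \ T).card % 2 = 0 := by
    have h2 := card_symmDiff_add T T'
    have h3 := card_sdiff_add_card_inter T' T
    have h4 := gc_card hc
    rw [inter_comm] at h3
    omega
  refine ⟨⟨fun k => 2 * (ind T k * sgn M k) - 2 * (ind T' k * sgn M' k), even_mem hc
    (fun k => ind T' k * ind M' k - ind T k * ind M k - ind (T' \ T) k) ?_ fun k => ?_⟩, ?_⟩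
  · rw [Finset.sum_sub_distrib, Finset.sum_sub_distrib, sum_ind_ind, sum_ind_ind, sum_ind]
    omega
  · simp only [ind, sgn, mem_symmDiff, mem_sdiff]
    by_cases h1 : k ∈ T <;> by_cases h2 : k ∈ T' <;> by_cases h3 : k ∈ M <;> by_cases h4 : k ∈ M' <;>
      simp [h1, h2, h3, h4]
  · refine Subtype.ext (funext fun k => ?_)
    rw [sub_apply, add_apply, tv_apply h, tv_apply h']
    ring

theorem tv_frame {g : Co0} (h : T.card = 4) (h' : T'.card = 4) (hc : T ∆ T' ∈ GC)
    (hp : (M ∩ T).card % 2 = (M' ∩ T').card % 2) (hg : g • tv T' M' = e8 none) :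
    ∃ j, g • tv T M = e8 j ∨ g • tv T M = -e8 j := by
  obtain ⟨w, hw⟩ := tv_cong h h' hc hp
  refine frame_lemma (i := none) (w := g • w) (by rw [nrm_smul, nrm_tv h]) ?_
  rw [← hg, ← co_sub, hw, co_add]

theorem pm_of_pm {g : Co0} {u v : leechLattice} {j : GolayPt} (h1 : g • u = e8 j ∨ g • u = -e8 j)
    (h2 : g • v = e8 j ∨ g • v = -e8 j) : u = v ∨ u = -v := by
  rcases h1 with h1 | h1 <;> rcases h2 with h2 | h2
  · exact Or.inl (smul_left_cancel g (h1.trans h2.symm))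
  · exact Or.inr (smul_left_cancel g (by rw [co_neg, h1, h2, neg_neg]))
  · exact Or.inr (smul_left_cancel g (by rw [co_neg, h1, h2]))
  · exact Or.inl (smul_left_cancel g (h1.trans h2.symm))

theorem sgn_sd_self (M : Finset GolayPt) (x : GolayPt) : sgn (M ∆ {x}) x = -sgn M x := by
  by_cases h : x ∈ M <;> simp [sgn, mem_symmDiff, h]

theorem sgn_sd_ne (M : Finset GolayPt) {x y : GolayPt} (h : y ≠ x) : sgn (M ∆ {x}) y = sgn M y := by
  by_cases h' : y ∈ M <;> simp [sgn, mem_symmDiff, h, h']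

theorem card_sd_inter {x : GolayPt} (hx : x ∈ T) :
    ((M ∆ {x}) ∩ T).card % 2 = ((M ∩ T).card + 1) % 2 := by
  have h1 : (M ∆ {x}) ∩ T = (M ∩ T) ∆ {x} := by
    ext k
    by_cases h : k = x
    · subst h; simp [mem_symmDiff, hx]
    · simp [mem_symmDiff, h]
  have h2 := card_symmDiff_add (M ∩ T) {x}
  rw [h1]
  rw [card_singleton] at h2
  omega

theorem axes {g : Co0} (h : T.card = 4) (h' : T'.card = 4) (hc : T ∆ T' ∈ GC)
    (hp : ((M ∩ T).card + 1) % 2 = (M' ∩ T').card % 2) (hg : g • tv T' M' = e8 none) :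
    ∃ f : GolayPt → GolayPt, Set.InjOn f T ∧
      ∀ x ∈ T, g • tv T (M ∆ {x}) = e8 (f x) ∨ g • tv T (M ∆ {x}) = -e8 (f x) := by
  have h1 : ∀ x, ∃ j, x ∈ T → (g • tv T (M ∆ {x}) = e8 j ∨ g • tv T (M ∆ {x}) = -e8 j) := by
    intro x
    by_cases hx : x ∈ T
    · obtain ⟨j, hj⟩ := tv_frame h h' hc ((card_sd_inter hx).trans hp) hg
      exact ⟨j, fun _ => hj⟩
    · exact ⟨none, fun h => absurd h hx⟩
  choose f hf using h1
  refine ⟨f, fun x hx y hy hxy => ?_, hf⟩
  by_contra hne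
  have h2 := hf y hy
  rw [← hxy] at h2
  rcases pm_of_pm (hf x hx) h2 with h3 | h3
  · have h4 := congrArg (fun u : leechLattice => u.1 x) h3
    simp only [tv_in h _ hx, sgn_sd_self, sgn_sd_ne M hne] at h4
    rcases sgn_cases M x with h5 | h5 <;> omega
  · obtain ⟨w, hw, hw'⟩ : ∃ w ∈ T, w ∉ ({x, y} : Finset GolayPt) :=
      exists_mem_notMem_of_card_lt_card (by have := card_le_two (a := x) (b := y); omega)
    simp only [mem_insert, mem_singleton, not_or] at hw'
    have h4 := congrArg (fun u : leechLattice => u.1 w) h3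
    simp only [neg_apply, tv_in h _ hw, sgn_sd_ne M hw'.1, sgn_sd_ne M hw'.2] at h4
    rcases sgn_cases M w with h5 | h5 <;> omega

/-! ### Generation -/

section Gen

variable {H : Subgroup Co0}

/-- the vector can be moved to the standard frame vector inside `H` -/
def Good (H : Subgroup Co0) (u : leechLattice) : Prop := ∃ h ∈ H, h • u = e8 none

theorem Good.of_smul {g : Co0} {u : leechLattice} (hg : g ∈ H) (h : Good H (g • u)) : Good H u := by
  obtain ⟨k, hk, h1⟩ := h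
  exact ⟨k * g, H.mul_mem hk hg, by rw [mul_smul, h1]⟩

theorem good_eight (hN : NN ≤ H) {u : leechLattice} (hu : nrm u = 64) {j : GolayPt}
    (hj : 8 ≤ |u.1 j|) : Good H u := by
  have h1 : u.1 j ^ 2 ≤ 64 := hu ▸ sq_le_sqNorm u.1 j
  obtain ⟨σ, hσ, h2⟩ := Golay.M24_trans_one j none
  have h3 : Good H (e8 j) := ⟨pe σ, hN (pe_mem_NN hσ), by rw [pe_eq hσ, permEl_e8, h2]⟩
  have h4 : u.1 j = 8 ∨ u.1 j = -8 := by
    rcases abs_cases (u.1 j) with h | h
    · left; nlinarith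
    · right; nlinarith
  rcases h4 with h4 | h4
  · rwa [eq_e8 hu h4]
  · refine Good.of_smul (hN (EE_le_NN zz_mem_EE)) ?_
    rwa [zz_smul, eq_e8 (u := -u) (i := j) (by rw [nrm_neg, hu]) (by rw [neg_apply, h4]; rfl)]

theorem sgn_neg_abs (u : leechLattice) (k : GolayPt) :
    sgn (univ.filter fun i => u.1 i < 0) k * u.1 k = |u.1 k| := by
  by_cases h : u.1 k < 0
  · rw [sgn_neg (by simpa using h), abs_of_neg h]; ring
  · rw [sgn_pos (by simpa using h), abs_of_nonneg (by omega)]; ring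

theorem step_up (hT : ∀ T M, T.card = 4 → ∃ g ∈ H, g • tv T M = e8 none) (u : leechLattice)
    (h : T.card = 4) : ∃ g ∈ H, 2 * (g • u).1 none = ∑ k ∈ T, |u.1 k| := by
  obtain ⟨g, hg, h1⟩ := hT T (univ.filter fun i => u.1 i < 0) h
  refine ⟨g, hg, ?_⟩
  have h2 := dt_smul g u (tv T (univ.filter fun i => u.1 i < 0))
  rw [h1, dt_e8, dt_tv h, Finset.sum_congr rfl fun k _ => sgn_neg_abs u k] at h2
  omega

theorem sum_four {j k l m : GolayPt} (h1 : j ≠ k) (h2 : j ≠ l) (h3 : j ≠ m) (h4 : k ≠ l) (h5 : k ≠ m)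
    (h6 : l ≠ m) (f : GolayPt → ℤ) :
    ∑ i ∈ ({j, k, l, m} : Finset GolayPt), f i = f j + f k + f l + f m := by
  rw [sum_insert (by simp [h1, h2, h3]), sum_insert (by simp [h4, h5]), sum_pair h6]; ring

theorem card_four {j k l m : GolayPt} (h1 : j ≠ k) (h2 : j ≠ l) (h3 : j ≠ m) (h4 : k ≠ l) (h5 : k ≠ m)
    (h6 : l ≠ m) : ({j, k, l, m} : Finset GolayPt).card = 4 := by
  rw [card_insert_of_notMem (by simp [h1, h2, h3]), card_insert_of_notMem (by simp [h4, h5]),
    card_pair h6]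

theorem good_three (hN : NN ≤ H) (hT : ∀ T M, T.card = 4 → ∃ g ∈ H, g • tv T M = e8 none)
    {w : leechLattice} (hw : nrm w = 64) {k l m : GolayPt} (h4 : k ≠ l) (h5 : k ≠ m) (h6 : l ≠ m)
    (hk : |w.1 k| = 4) (hl : |w.1 l| = 4) (hm : |w.1 m| = 4) : Good H w := by
  have hs : w.1 k ^ 2 + w.1 l ^ 2 + w.1 m ^ 2 + ∑ i ∈ univ \ {k, l, m}, w.1 i ^ 2 = 64 := by
    have h1 := Finset.sum_sdiff (subset_univ ({k, l, m} : Finset GolayPt)) (f := fun i => w.1 i ^ 2)
    rw [sum_insert (by simp [h4, h5]), sum_pair h6] at h1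
    have h2 : ∑ i, w.1 i ^ 2 = 64 := hw
    omega
  rw [← sq_abs (w.1 k), ← sq_abs (w.1 l), ← sq_abs (w.1 m), hk, hl, hm] at hs
  have h16 : ∑ i ∈ univ \ {k, l, m}, w.1 i ^ 2 = 16 := by omega
  obtain ⟨j, hj, hj0⟩ : ∃ j ∈ univ \ ({k, l, m} : Finset GolayPt), w.1 j ≠ 0 := by
    by_contra hcon
    push Not at hcon
    rw [Finset.sum_eq_zero fun i hi => by rw [hcon i hi]; rfl] at h16
    omega
  have a1 := abs_cases (w.1 k)
  have a2 := abs_cases (w.1 l)
  have a3 := abs_cases (w.1 m)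
  have a4 := abs_cases (w.1 j)
  have hj4 : 4 ≤ |w.1 j| := by
    rcases leech_cases w.2 with ⟨c, hc, z, h1, -⟩ | ⟨c, hc, z, h1, -⟩
    · have h2 : c ⊆ univ \ {k, l, m} := by
        intro i hi
        have h3 := h1 i
        simp only [ind, hi, if_true] at h3
        simp only [mem_sdiff, mem_univ, true_and, mem_insert, mem_singleton, not_or]
        refine ⟨?_, ?_, ?_⟩ <;> rintro rfl <;> omega
      have h3 : ∑ i ∈ c, (4 : ℤ) ≤ ∑ i ∈ univ \ {k, l, m}, w.1 i ^ 2 := by
        refine le_trans (Finset.sum_le_sum fun i hi => ?_)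
          (Finset.sum_le_sum_of_subset_of_nonneg h2 fun i _ _ => sq_nonneg _)
        have h3 := h1 i
        simp only [ind, hi, if_true] at h3
        have : 2 ≤ w.1 i ∨ w.1 i ≤ -2 := by omega
        rcases this with h | h <;> nlinarith
      rw [h16, sum_const, nsmul_eq_mul] at h3
      have h7 : c = ∅ := gc_eq_empty_of_lt hc (by omega)
      have h8 := h1 j
      simp only [ind, h7, notMem_empty, if_false] at h8
      omega
    · have h2 := h1 k
      rcases sgn_cases c k with h | h <;> omega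
  simp only [mem_sdiff, mem_univ, true_and, mem_insert, mem_singleton, not_or] at hj
  obtain ⟨g, hg, h1⟩ := step_up hT w (card_four hj.1 hj.2.1 hj.2.2 h4 h5 h6)
  rw [sum_four hj.1 hj.2.1 hj.2.2 h4 h5 h6] at h1
  have a5 := le_abs_self ((g • w).1 none)
  exact Good.of_smul hg (good_eight hN (by rw [nrm_smul, hw]) (j := none) (by omega))

theorem good_six (hN : NN ≤ H) (hT : ∀ T M, T.card = 4 → ∃ g ∈ H, g • tv T M = e8 none)
    {u : leechLattice} (hu : nrm u = 64) {j k l m : GolayPt} (h1 : j ≠ k) (h2 : j ≠ l) (h3 : j ≠ m)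
    (h4 : k ≠ l) (h5 : k ≠ m) (h6 : l ≠ m) (hj : |u.1 j| = 6)
    (hk : |u.1 k| = 2) (hl : |u.1 l| = 2) (hm : |u.1 m| = 2) : Good H u := by
  have hc := card_four h1 h2 h3 h4 h5 h6
  obtain ⟨M, hM⟩ : ∃ M : Finset GolayPt, ∀ k, sgn M k * u.1 k = |u.1 k| := ⟨_, sgn_neg_abs u⟩
  have hkT : k ∈ ({j, k, l, m} : Finset GolayPt) := by simp
  have hlT : l ∈ ({j, k, l, m} : Finset GolayPt) := by simp
  have hmT : m ∈ ({j, k, l, m} : Finset GolayPt) := by simp
  obtain ⟨g, hg, h7⟩ := hT _ (M ∆ {k}) hc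
  obtain ⟨f, hf, hf'⟩ := axes (M := M) hc hc (by rw [symmDiff_self]; exact empty_mem_GC)
    (card_sd_inter hkT).symm h7
  have h8 : ∀ x ∈ ({j, k, l, m} : Finset GolayPt), dt u (tv {j, k, l, m} (M ∆ {x})) = 32 →
      |(g • u).1 (f x)| = 4 := by
    intro x hx h9
    rw [← dt_smul g] at h9
    have a1 := abs_cases ((g • u).1 (f x))
    rcases hf' x hx with h | h
    · rw [h, dt_e8] at h9; omega
    · rw [h, dt_neg_right, dt_e8] at h9; omega
  have e1 := hM j
  have e2 := hM k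
  have e3 := hM l
  have e4 := hM m
  refine Good.of_smul hg (good_three hN hT (by rw [nrm_smul, hu]) (k := f k) (l := f l) (m := f m)
    (fun h => h4 (hf hkT hlT h)) (fun h => h5 (hf hkT hmT h)) (fun h => h6 (hf hlT hmT h))
    (h8 k hkT ?_) (h8 l hlT ?_) (h8 m hmT ?_))
  · rw [dt_tv hc, sum_four h1 h2 h3 h4 h5 h6, sgn_sd_self, sgn_sd_ne M h1, sgn_sd_ne M h4.symm,
      sgn_sd_ne M h5.symm, neg_mul]
    omega
  · rw [dt_tv hc, sum_four h1 h2 h3 h4 h5 h6, sgn_sd_self, sgn_sd_ne M h2, sgn_sd_ne M h4,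
      sgn_sd_ne M h6.symm, neg_mul]
    omega
  · rw [dt_tv hc, sum_four h1 h2 h3 h4 h5 h6, sgn_sd_self, sgn_sd_ne M h3, sgn_sd_ne M h5,
      sgn_sd_ne M h6, neg_mul]
    omega

theorem arith_aux {a b c d : ℤ} (h0 : 0 ≤ d) (h1 : d ≤ c) (h2 : c ≤ b) (h3 : b + c + d ≤ a)
    (h4 : a ≤ 7) (p1 : b % 2 = a % 2) (p2 : c % 2 = a % 2) (p3 : d % 2 = a % 2)
    (hU : 64 ≤ a ^ 2 + b ^ 2 + c ^ 2 + 21 * d ^ 2) (hL : a ^ 2 + b ^ 2 ≤ 64) (h7 : a ≠ 7) :
    a = 6 ∧ b = 2 ∧ c = 2 ∧ d = 2 := by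
  have h5 : 0 ≤ a := by omega
  have h6 : d ≤ 2 := by omega
  have h8 : c ≤ 3 := by omega
  have h9 : b ≤ 7 := by omega
  have h10 : 0 ≤ b := by omega
  have h11 : 0 ≤ c := by omega
  interval_cases a <;> interval_cases d <;> interval_cases c <;> interval_cases b <;> omega

theorem good_step (hN : NN ≤ H) (hT : ∀ T M, T.card = 4 → ∃ g ∈ H, g • tv T M = e8 none) {a : ℤ}
    (ha : a ≤ 7) (ih : ∀ u : leechLattice, nrm u = 64 → ∀ j, a + 1 ≤ |u.1 j| → Good H u)
    {u : leechLattice} (hu : nrm u = 64) {j : GolayPt} (hj : a ≤ |u.1 j|) : Good H u := by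
  by_cases h0 : a + 1 ≤ |u.1 j|
  · exact ih u hu j h0
  have hja : |u.1 j| = a := by omega
  have hcard : (univ : Finset GolayPt).card = 24 := by rw [card_univ, card_pt]
  obtain ⟨k, hk, hk'⟩ := exists_max_image (univ.erase j) (fun i => |u.1 i|)
    (card_pos.1 (by rw [card_erase_of_mem (mem_univ _)]; omega))
  obtain ⟨l, hl, hl'⟩ := exists_max_image ((univ.erase j).erase k) (fun i => |u.1 i|)
    (card_pos.1 (by rw [card_erase_of_mem hk, card_erase_of_mem (mem_univ _)]; omega))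
  have hc21 : (((univ.erase j).erase k).erase l).card = 21 := by
    rw [card_erase_of_mem hl, card_erase_of_mem hk, card_erase_of_mem (mem_univ _)]; omega
  obtain ⟨m, hm, hm'⟩ := exists_max_image (((univ.erase j).erase k).erase l) (fun i => |u.1 i|)
    (card_pos.1 (by omega))
  have hs : u.1 j ^ 2 + u.1 k ^ 2 + u.1 l ^ 2 + ∑ i ∈ ((univ.erase j).erase k).erase l, u.1 i ^ 2 = 64 := by
    have e1 := Finset.add_sum_erase _ (fun i => u.1 i ^ 2) (mem_univ j)
    have e2 := Finset.add_sum_erase _ (fun i => u.1 i ^ 2) hk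
    have e3 := Finset.add_sum_erase _ (fun i => u.1 i ^ 2) hl
    have e4 : ∑ i, u.1 i ^ 2 = 64 := hu
    omega
  have hl2 := mem_of_mem_erase hl
  have hm2 := mem_of_mem_erase hm
  have hm3 := mem_of_mem_erase hm2
  have n1 : j ≠ k := (ne_of_mem_erase hk).symm
  have n2 : j ≠ l := (ne_of_mem_erase hl2).symm
  have n3 : j ≠ m := (ne_of_mem_erase hm3).symm
  have n4 : k ≠ l := (ne_of_mem_erase hl).symm
  have n5 : k ≠ m := (ne_of_mem_erase hm2).symm
  have n6 : l ≠ m := (ne_of_mem_erase hm).symm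
  by_cases h1 : |u.1 k| + |u.1 l| + |u.1 m| ≤ a
  · have hU : ∑ i ∈ ((univ.erase j).erase k).erase l, u.1 i ^ 2 ≤ 21 * |u.1 m| ^ 2 := by
      have := Finset.sum_le_card_nsmul (((univ.erase j).erase k).erase l) (fun i => u.1 i ^ 2)
        (|u.1 m| ^ 2) fun i hi => by
          rw [← sq_abs]; exact pow_le_pow_left₀ (abs_nonneg _) (hm' i hi) 2
      rwa [hc21, nsmul_eq_mul] at this
    have hL : 0 ≤ ∑ i ∈ ((univ.erase j).erase k).erase l, u.1 i ^ 2 :=
      Finset.sum_nonneg fun i _ => sq_nonneg _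
    have h7 : a ≠ 7 := by
      rintro rfl
      have h2 : (21 : ℤ) ≤ ∑ i ∈ ((univ.erase j).erase k).erase l, u.1 i ^ 2 := by
        have := Finset.card_nsmul_le_sum (((univ.erase j).erase k).erase l) (fun i => u.1 i ^ 2) 1
          fun i _ => by
            have h3 := parity_eq u.2 i j
            have a1 := abs_cases (u.1 j)
            have : 1 ≤ u.1 i ∨ u.1 i ≤ -1 := by omega
            rcases this with h | h <;> nlinarith
        rwa [hc21, nsmul_eq_mul, mul_one] at this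
      rw [← sq_abs (u.1 j), hja] at hs
      nlinarith [sq_nonneg (u.1 k), sq_nonneg (u.1 l)]
    have q : ∀ i, |u.1 i| % 2 = a % 2 := fun i => by
      have p1 := parity_eq u.2 i j
      have a1 := abs_cases (u.1 j)
      have a2 := abs_cases (u.1 i)
      omega
    rw [← sq_abs (u.1 j), ← sq_abs (u.1 k), ← sq_abs (u.1 l), hja] at hs
    obtain ⟨r1, r2, r3, r4⟩ := arith_aux (a := a) (b := |u.1 k|) (c := |u.1 l|) (d := |u.1 m|)
      (abs_nonneg _) (hl' m hm2) (hk' l hl2) h1 ha (q k) (q l) (q m) (by omega)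
      (by nlinarith [sq_nonneg (|u.1 l|)]) h7
    exact good_six hN hT hu n1 n2 n3 n4 n5 n6 (by omega) r2 r3 r4
  · obtain ⟨g, hg, h2⟩ := step_up hT u (card_four n1 n2 n3 n4 n5 n6)
    rw [sum_four n1 n2 n3 n4 n5 n6] at h2
    have a5 := le_abs_self ((g • u).1 none)
    exact Good.of_smul hg (ih _ (by rw [nrm_smul, hu]) none (by omega))

/-- a subgroup containing the monomial group and elements moving each `(±4)^4` to `8 e_∞` is
everything -/
theorem gen_top (hN : NN ≤ H) (hT : ∀ T M, T.card = 4 → ∃ g ∈ H, g • tv T M = e8 none) :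
    H = ⊤ := by
  have h1 : ∀ n : ℕ, ∀ u : leechLattice, nrm u = 64 → ∀ j, 8 - (n : ℤ) ≤ |u.1 j| → Good H u := by
    intro n
    induction n with
    | zero => intro u hu j hj; exact good_eight hN hu (j := j) (by simpa using hj)
    | succ n ih =>
      intro u hu j hj
      exact good_step hN hT (a := 8 - ((n + 1 : ℕ) : ℤ)) (by omega)
        (fun v hv i hi => ih v hv i (by omega)) hu hj
  rw [eq_top_iff]
  intro g _
  obtain ⟨h, hh, h2⟩ := h1 8 (g • e8 none) (by rw [nrm_smul, nrm_e8]) none (by simp)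
  have h3 : h * g ∈ NN := mem_NN_of_e8 (Or.inl (by rw [mul_smul, h2]))
  have := H.mul_mem (H.inv_mem hh) (hN h3)
  rwa [inv_mul_cancel_left] at this

end Gen

end Cfsg.Lib.Dot0
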