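import Cfsg.Agent.Lib.Dot0.AutB

/-! A group acting on the Golay code in which the stabilizer of the all-one word acts as `M24`
fixes the all-one word. -/

set_option autoImplicit false
set_option maxHeartbeats 400000

namespace Cfsg.Lib.Dot0

open Finset Cfsg.Lib.Leech
open scoped Pointwise symmDiff

theorem eq_one_of_fix_GC {σ : Equiv.Perm GolayPt} (h : ∀ c ∈ GC, σ • c = c) : σ = 1 := by
  refine Equiv.ext fun i => ?_
  by_contra hne
  obtain ⟨c, hc, h1, h2⟩ := exists_sep (Ne.symm hne)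
  exact h1 ((mem_iff_of_smul (h c hc) i).1 h2)

theorem no_seven {y : Equiv.Perm GolayPt} (hy : y ∈ M24) (h7 : y ^ 7 = 1) {d : Finset GolayPt}
    (hd : d ∈ dodecads) (h : y • d = d) : y = 1 := by
  obtain ⟨e⟩ := Golay.equiv_stab_dodecad hd
  have h1 := Nat.card_congr e.toEquiv
  rw [Golay.card_stabG_dodecad_0] at h1
  have h2 : (⟨y, hy⟩ : M24) ∈ MulAction.stabilizer M24 d := h
  have h3 := Subgroup.orderOf_dvd_natCard _ h2
  rw [h1] at h3
  have h4 : orderOf (⟨y, hy⟩ : M24) ∣ 7 := orderOf_dvd_of_pow_eq_one (Subtype.ext h7)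
  have h5 := Nat.dvd_gcd h3 h4
  have h6 : orderOf (⟨y, hy⟩ : M24) = 1 := Nat.dvd_one.1 h5
  exact congrArg Subtype.val (orderOf_eq_one_iff.1 h6)

/-- an element of order seven -/
def y7 : Equiv.Perm GolayPt where
  toFun a := Golay.pt (PC.app 5 273104373764536877864202962840062003 (Golay.idx a))
  invFun a := Golay.pt (PC.app 5 598637882770231491984615536362653731 (Golay.idx a))
  left_inv := by decide +kernel
  right_inv := by decide +kernel

theorem trio_data : ∃ X O : Finset GolayPt, X ∈ GC ∧ X.card = 16 ∧ O ∈ GC ∧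
    (∃ y ∈ M24, y ^ 7 = 1 ∧ y ≠ 1 ∧ y • O = O ∧ y • X = X) ∧
    ∃ s ∈ M24, s • X = X ∧ s • O = O ∆ X := by
  have hy : Golay.R 273104373764536877864202962840062003 y7 := by
    unfold Golay.R PC.Rep; decide +kernel
  obtain ⟨s, hs, hs'⟩ := Golay.I_M24 (p := 901822267910718830723663610541909032) (by decide +kernel)
  refine ⟨Golay.fs 11067261, Golay.fs 8439632, Golay.fs_mem_of_isCw (by decide +kernel),
    by rw [Golay.card_fs]; decide +kernel, Golay.fs_mem_of_isCw (by decide +kernel),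
    ⟨y7, hy.mem_M24 (by decide +kernel), by decide +kernel, by decide +kernel, ?_, ?_⟩,
    s⁻¹, M24.inv_mem hs, ?_, ?_⟩
  · rw [← eq_inv_smul_iff, ← hy.fs_pre]; exact congrArg _ (by decide +kernel)
  · rw [← eq_inv_smul_iff, ← hy.fs_pre]; exact congrArg _ (by decide +kernel)
  · rw [← Golay.R.fs_pre hs']; exact congrArg _ (by decide +kernel)
  · rw [← Golay.R.fs_pre hs', ← Golay.fs_xor]; exact congrArg _ (by decide +kernel)

theorem exists_octad_four {O : Finset GolayPt} (hO : O ∈ octads) :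
    ∃ O' ∈ octads, (O ∩ O').card = 4 := by
  obtain ⟨T, hT, h4⟩ := exists_subset_card_eq (s := O) (n := 4) (by rw [hO.2]; norm_num)
  have h1 := Golay.ncard_octads_four h4
  obtain ⟨O', h2, h3⟩ := Set.exists_ne_of_one_lt_ncard (by rw [h1]; norm_num) O
  refine ⟨O', h2.1, ?_⟩
  have h5 := card_le_card (subset_inter hT h2.2)
  have := Golay.card_inter_octads hO h2.1 h3.symm
  omega

variable {G : Type*} [Group G] {s : Finset GolayPt → G} {M : Subgroup G}

/-- a copy of the Golay code normalized by `M`, the stabilizer of the all-one word acting as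
`M24` -/
structure FusData (s : Finset GolayPt → G) (M : Subgroup G) : Prop where
  mul : ∀ c ∈ GC, ∀ d ∈ GC, s (c ∆ d) = s c * s d
  inj : ∀ c ∈ GC, ∀ d ∈ GC, s c = s d → c = d
  norm : ∀ m ∈ M, ∀ c ∈ GC, ∃ d ∈ GC, m * s c * m⁻¹ = s d
  real : ∀ σ ∈ M24, ∃ n ∈ M, ∀ c ∈ GC, n * s c * n⁻¹ = s (σ • c)
  stab : ∀ m ∈ M, m * s univ * m⁻¹ = s univ → ∃ σ ∈ M24, ∀ c ∈ GC, m * s c * m⁻¹ = s (σ • c)

/-- the orbit of the all-one word -/
def Om (s : Finset GolayPt → G) (M : Subgroup G) (c : Finset GolayPt) : Prop :=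
  ∃ m ∈ M, m * s c * m⁻¹ = s univ

theorem om_univ : Om s M univ := ⟨1, M.one_mem, by group⟩

theorem om_iff {m : G} (hm : m ∈ M) {c d : Finset GolayPt} (h : m * s c * m⁻¹ = s d) :
    Om s M c ↔ Om s M d := by
  constructor
  · rintro ⟨k, hk, h1⟩
    exact ⟨k * m⁻¹, M.mul_mem hk (M.inv_mem hm), by rw [← h, ← h1]; group⟩
  · rintro ⟨k, hk, h1⟩
    exact ⟨k * m, M.mul_mem hk hm, by rw [← h1, ← h]; group⟩

namespace FusData

variable (D : FusData s M)
include D

theorem s_empty : s ∅ = 1 := by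
  have := D.mul ∅ empty_mem_GC ∅ empty_mem_GC
  rw [symmDiff_self] at this
  exact left_eq_mul.1 this

theorem eq_empty {m : G} {c : Finset GolayPt} (hc : c ∈ GC) (h : m * s c * m⁻¹ = s ∅) : c = ∅ := by
  rw [D.s_empty, mul_inv_eq_one, mul_eq_left, ← D.s_empty] at h
  exact D.inj c hc ∅ empty_mem_GC h

theorem not_om_empty : ¬ Om s M ∅ := by
  rintro ⟨m, -, h⟩
  have h1 : m⁻¹ * s univ * m⁻¹⁻¹ = s ∅ := by rw [← h]; group
  exact univ_nonempty.ne_empty (D.eq_empty univ_mem_GC h1)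

theorem om_smul {σ : Equiv.Perm GolayPt} (hσ : σ ∈ M24) {c : Finset GolayPt} (hc : c ∈ GC)
    (h : Om s M c) : Om s M (σ • c) := by
  obtain ⟨n, hn, h1⟩ := D.real σ hσ
  exact (om_iff hn (h1 c hc)).1 h

theorem om_same {c d : Finset GolayPt} (hc : c ∈ GC) (hd : d ∈ GC) (h : c.card = d.card)
    (h1 : Om s M c) : Om s M d := by
  obtain ⟨σ, hσ, rfl⟩ : ∃ σ ∈ M24, σ • c = d := by
    rcases gc_card hc with h2 | h2 | h2 | h2 | h2
    · exact ⟨1, M24.one_mem, by rw [one_smul, card_eq_zero.1 h2, card_eq_zero.1 (h.symm.trans h2)]⟩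
    · exact Golay.M24_octad_trans ⟨hc, h2⟩ ⟨hd, h ▸ h2⟩
    · exact Golay.M24_dodecad_trans ⟨hc, h2⟩ ⟨hd, h ▸ h2⟩
    · obtain ⟨σ, hσ, h3⟩ := Golay.M24_octad_trans (o := cᶜ) (o' := dᶜ)
        ⟨compl_mem_GC hc, by rw [card_compl_pt, h2]⟩ ⟨compl_mem_GC hd, by rw [card_compl_pt, ← h, h2]⟩
      rw [Golay.smul_compl_perm, compl_inj_iff] at h3
      exact ⟨σ, hσ, h3⟩
    · refine ⟨1, M24.one_mem, ?_⟩
      rw [one_smul, (card_eq_iff_eq_univ c).1 (h2.trans card_pt.symm),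
        (card_eq_iff_eq_univ d).1 ((h ▸ h2).trans card_pt.symm)]
  exact D.om_smul hσ hc h1

theorem compl {m : G} {c x x' : Finset GolayPt} (hc : c ∈ GC) (hx : x ∈ GC) (hx' : x' ∈ GC)
    (h1 : m * s c * m⁻¹ = s univ) (h2 : m * s x * m⁻¹ = s x') : m * s (x ∆ c) * m⁻¹ = s x'ᶜ := by
  rw [compl_eq_symmDiff, D.mul x hx c hc, D.mul x' hx' univ univ_mem_GC, ← h1, ← h2]; group

theorem transport {m : G} (hm : m ∈ M) {c : Finset GolayPt} (hc : c ∈ GC)
    (h1 : m * s c * m⁻¹ = s univ) {σ : Equiv.Perm GolayPt} (hσ : σ ∈ M24) (h2 : σ • c = c) :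
    ∃ σ' ∈ M24, ∀ x ∈ GC, ∀ x' ∈ GC, m * s x * m⁻¹ = s x' → m * s (σ • x) * m⁻¹ = s (σ' • x') := by
  obtain ⟨n, hn, h3⟩ := D.real σ hσ
  obtain ⟨σ', hσ', h4⟩ := D.stab (m * n * m⁻¹) (M.mul_mem (M.mul_mem hm hn) (M.inv_mem hm)) (by
    have h5 := h3 c hc
    rw [h2] at h5
    calc m * n * m⁻¹ * s univ * (m * n * m⁻¹)⁻¹ = m * (n * s c * n⁻¹) * m⁻¹ := by rw [← h1]; group
      _ = s univ := by rw [h5, h1])
  refine ⟨σ', hσ', fun x hx x' hx' h5 => ?_⟩
  rw [← h4 x' hx', ← h5, ← h3 x hx]; group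

theorem not_sixteen {c : Finset GolayPt} (hc : c ∈ GC) (h : c.card = 16) : ¬ Om s M c := by
  intro h1
  obtain ⟨X, O, hX, hX', hO, ⟨y, hy, y1, y2, y3, y4⟩, t, ht, t1, t2⟩ := trio_data
  obtain ⟨m, hm, h2⟩ := D.om_same hc hX (h.trans hX'.symm) h1
  obtain ⟨u, hu, h3⟩ := D.norm m hm O hO
  obtain ⟨t', ht', h4⟩ := D.transport hm hX h2 ht t1
  obtain ⟨y', hy', h5⟩ := D.transport hm hX h2 hy y4
  have h6 := h4 O hO u hu h3
  rw [t2, D.compl hX hO hu h2 h3] at h6
  have h7 := congrArg Finset.card (D.inj _ (compl_mem_GC hu) _ (smul_mem_GC ht' hu) h6)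
  rw [card_compl_pt, Golay.card_perm_smul] at h7
  have h8 := h5 O hO u hu h3
  rw [y3, h3] at h8
  have h9 : ∀ n : ℕ, ∀ x ∈ GC, ∀ x' ∈ GC, m * s x * m⁻¹ = s x' →
      m * s (y ^ n • x) * m⁻¹ = s (y' ^ n • x') := by
    intro n
    induction n with
    | zero => intro x _ x' _ h; rwa [pow_zero, pow_zero, one_smul, one_smul]
    | succ n ih =>
      intro x hx x' hx' h
      rw [pow_succ', pow_succ', mul_smul, mul_smul]
      exact h5 _ (smul_mem_GC (M24.pow_mem hy n) hx) _ (smul_mem_GC (M24.pow_mem hy' n) hx')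
        (ih x hx x' hx' h)
  have h10 : y' ^ 7 = 1 := eq_one_of_fix_GC fun x' hx' => by
    obtain ⟨x, hx, h⟩ := D.norm m⁻¹ (M.inv_mem hm) x' hx'
    have h' : m * s x * m⁻¹ = s x' := by rw [← h]; group
    have h'' := h9 7 x hx x' hx' h'
    rw [y1, one_smul, h'] at h''
    exact (D.inj _ hx' _ (smul_mem_GC (M24.pow_mem hy' 7) hx') h'').symm
  have h11 := no_seven hy' h10 (d := u) ⟨hu, by omega⟩ (D.inj _ hu _ (smul_mem_GC hy' hu) h8).symm
  refine y2 (eq_one_of_fix_GC fun x hx => ?_)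
  obtain ⟨x', hx', h12⟩ := D.norm m hm x hx
  have h13 := h5 x hx x' hx' h12
  rw [h11, one_smul, ← h12, mul_left_inj, mul_right_inj] at h13
  exact D.inj _ (smul_mem_GC hy hx) _ hx h13

theorem not_eight {c : Finset GolayPt} (hc : c ∈ GC) (h : c.card = 8) : ¬ Om s M c := by
  intro h1
  obtain ⟨O', hO', h2⟩ := exists_octad_four ⟨hc, h⟩
  have h3 : (O' ∆ c).card = 8 := by
    have := card_symmDiff_add O' c
    have := hO'.2
    rw [inter_comm] at h2
    omega
  have h4 := symmDiff_mem_GC hO'.1 hc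
  have a1 := D.om_same hc hO'.1 (h.trans hO'.2.symm) h1
  have a2 := D.om_same hc h4 (h.trans h3.symm) h1
  obtain ⟨m, hm, h5⟩ := id h1
  obtain ⟨u, hu, h6⟩ := D.norm m hm O' hO'.1
  have a3 := (om_iff hm h6).1 a1
  have a4 := (om_iff hm (D.compl hc hO'.1 hu h5 h6)).1 a2
  have h7 : u.card = 12 := by
    have b1 := card_compl_pt u
    rcases gc_card hu with h7 | h7 | h7 | h7 | h7
    · rw [card_eq_zero.1 h7] at a3; exact absurd a3 D.not_om_empty
    · exact absurd a4 (D.not_sixteen (compl_mem_GC hu) (by omega))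
    · exact h7
    · exact absurd a3 (D.not_sixteen hu h7)
    · rw [card_eq_zero.1 (show uᶜ.card = 0 by omega)] at a4; exact absurd a4 D.not_om_empty
  have hx := compl_mem_GC hO'.1
  obtain ⟨v, hv, h8⟩ := D.norm m hm _ hx
  have a5 : ¬ Om s M v := fun h => D.not_sixteen hx (by rw [card_compl_pt, hO'.2]) ((om_iff hm h8).2 h)
  have a6 : ¬ Om s M vᶜ := fun h => D.not_sixteen (symmDiff_mem_GC hx hc) (by
    rw [compl_eq_symmDiff, symmDiff_right_comm, ← compl_eq_symmDiff,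
      card_compl_pt, h3]) ((om_iff hm (D.compl hc hx hv h5 h8)).2 h)
  have b1 := card_compl_pt v
  have b2 : (univ : Finset GolayPt).card = 24 := by rw [card_univ, card_pt]
  rcases gc_card hv with h9 | h9 | h9 | h9 | h9
  · exact a6 (D.om_same univ_mem_GC (compl_mem_GC hv) (by omega) om_univ)
  · exact a5 (D.om_same hc hv (by omega) h1)
  · exact a5 (D.om_same hu hv (by omega) a3)
  · exact a6 (D.om_same hc (compl_mem_GC hv) (by omega) h1)
  · exact a5 (D.om_same univ_mem_GC hv (by omega) om_univ)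

theorem not_twelve {c : Finset GolayPt} (hc : c ∈ GC) (h : c.card = 12) : ¬ Om s M c := by
  intro h1
  obtain ⟨O, hO, h2⟩ : {o | o ∈ octads ∧ (o ∩ c).card = 4}.Nonempty :=
    Set.nonempty_of_ncard_ne_zero (by rw [(Golay.ncard_octads_inter_dodecad ⟨hc, h⟩).2.2]; norm_num)
  have h3 : (O ∆ c).card = 12 := by
    have := card_symmDiff_add O c
    have := hO.2
    omega
  have a2 := D.om_same hc (symmDiff_mem_GC hO.1 hc) (h.trans h3.symm) h1
  obtain ⟨m, hm, h5⟩ := id h1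
  obtain ⟨u, hu, h6⟩ := D.norm m hm O hO.1
  have a4 := (om_iff hm (D.compl hc hO.1 hu h5 h6)).1 a2
  have b1 := card_compl_pt u
  rcases gc_card hu with h7 | h7 | h7 | h7 | h7
  · rw [card_eq_zero.1 h7] at h6
    have := hO.2
    rw [D.eq_empty hO.1 h6] at this
    simp at this
  · exact D.not_sixteen (compl_mem_GC hu) (by omega) a4
  · exact D.not_eight hO.1 hO.2 ((om_iff hm h6).2 (D.om_same hc hu (by omega) h1))
  · exact D.not_eight (compl_mem_GC hu) (by omega) a4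
  · rw [card_eq_zero.1 (show uᶜ.card = 0 by omega)] at a4; exact D.not_om_empty a4

theorem fix {m : G} (hm : m ∈ M) : m * s univ * m⁻¹ = s univ := by
  obtain ⟨u, hu, h⟩ := D.norm m hm univ univ_mem_GC
  have h1 := (om_iff hm h).1 om_univ
  rcases gc_card hu with h7 | h7 | h7 | h7 | h7
  · rw [card_eq_zero.1 h7] at h1; exact absurd h1 D.not_om_empty
  · exact absurd h1 (D.not_eight hu h7)
  · exact absurd h1 (D.not_twelve hu h7)
  · exact absurd h1 (D.not_sixteen hu h7)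
  · rw [h, (card_eq_iff_eq_univ u).1 (h7.trans card_pt.symm)]

end FusData

end Cfsg.Lib.Dot0
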