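import Cfsg.Agent.Lib.Dot0.Frame

/-! Every involution of `Co0` is conjugate to a sign change. -/

set_option autoImplicit false
set_option maxHeartbeats 400000

namespace Cfsg.Lib.Dot0

open Finset Cfsg.Lib.Leech
open scoped Pointwise symmDiff

variable {π : Equiv.Perm GolayPt}

theorem smul_eq_of_inv {s : Finset GolayPt} (h : π • s = s) {x : GolayPt} (hx : x ∈ s) : π x ∈ s := by
  rw [← h, apply_mem_smul_iff]; exact hx

theorem oct_through (hπ : π ∈ M24) (h2 : π * π = 1) (hO : (fixS π).card = 8) {i : GolayPt}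
    (hi : π i ≠ i) {S : Finset GolayPt} (hS : S ⊆ fixS π) (h3 : S.card = 3) :
    ∃ O' ∈ octads, insert i (insert (π i) S) ⊆ O' ∧ π • O' = O' ∧ (O' ∩ fixS π).card = 4 := by
  have n1 : π i ∉ S := fun h => hi (by have := mem_fixS.1 (hS h); rw [app_app h2] at this; exact this.symm)
  have n2 : i ∉ insert (π i) S := by
    simp only [mem_insert, not_or]
    exact ⟨hi.symm, fun h => hi (mem_fixS.1 (hS h))⟩
  have h5 : (insert i (insert (π i) S)).card = 5 := by
    rw [card_insert_of_notMem n2, card_insert_of_notMem n1, h3]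
  obtain ⟨O', hO', h4⟩ := Golay.exists_octad_superset h5
  have hOo : fixS π ∈ octads := ⟨fix_mem_GC hπ h2, hO⟩
  refine ⟨O', hO', h4, ?_, ?_⟩
  · refine Golay.octad_eq_of_five_le (Golay.smul_mem_octads hπ hO') hO' ?_
    rw [← h5]
    refine card_le_card (subset_inter (fun x hx => ?_) h4)
    rw [mem_smul_inv h2]
    apply h4
    simp only [mem_insert] at hx ⊢
    rcases hx with rfl | rfl | hx
    · exact Or.inr (Or.inl rfl)
    · exact Or.inl (app_app h2 _)
    · rw [mem_fixS.1 (hS hx)]; exact Or.inr (Or.inr hx)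
  · have h6 : O' ≠ fixS π := fun h => hi (mem_fixS.1 (h ▸ h4 (mem_insert_self _ _)))
    have h7 : 3 ≤ (O' ∩ fixS π).card := by
      rw [← h3]
      exact card_le_card (subset_inter ((subset_insert _ _).trans ((subset_insert _ _).trans h4)) hS)
    have := Golay.card_inter_octads hO' hOo h6
    omega

theorem even_three (h2 : π * π = 1) {O' e : Finset GolayPt} (hO' : O' ∈ GC) (h1 : π • O' = O')
    (he : e ∈ GC) (h3 : π • e = e) : (e ∩ O' ∩ fixS π).card % 2 = 0 := by
  rw [← even_sub_fix h2 fun x hx => mem_inter.2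
    ⟨smul_eq_of_inv h3 (mem_inter.1 hx).1, smul_eq_of_inv h1 (mem_inter.1 hx).2⟩]
  have := gc_inter_even he hO'
  omega

theorem not_two (hπ : π ∈ M24) (h2 : π * π = 1) (hO : (fixS π).card = 8) {i : GolayPt}
    (hi : π i ≠ i) {e : Finset GolayPt} (he : e ∈ GC) (h3 : π • e = e) : (e ∩ fixS π).card ≠ 2 := by
  intro h
  obtain ⟨p, q, hpq, h4⟩ := card_eq_two.1 h
  have hp : p ∈ e ∩ fixS π := by rw [h4]; simp
  have hq : q ∈ e ∩ fixS π := by rw [h4]; simp
  obtain ⟨r, hr, hr'⟩ : ∃ r ∈ fixS π, r ∉ ({p, q} : Finset GolayPt) :=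
    exists_mem_notMem_of_card_lt_card (by rw [card_pair hpq]; omega)
  simp only [mem_insert, mem_singleton, not_or] at hr'
  obtain ⟨O1, hO1, a1, a2, a3⟩ := oct_through hπ h2 hO hi (S := {r, p, q})
    (by simp only [insert_subset_iff, singleton_subset_iff]; exact ⟨hr, (mem_inter.1 hp).2, (mem_inter.1 hq).2⟩)
    (by rw [card_insert_of_notMem (by simpa using hr'), card_pair hpq])
  obtain ⟨s, hs, hs'⟩ : ∃ s ∈ fixS π, s ∉ O1 ∩ fixS π :=
    exists_mem_notMem_of_card_lt_card (by omega)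
  have hs1 : s ∉ O1 := fun h => hs' (mem_inter.2 ⟨h, hs⟩)
  have n1 : s ≠ r := by rintro rfl; exact hs1 (a1 (by simp))
  have n2 : s ≠ p := by rintro rfl; exact hs1 (a1 (by simp))
  have n3 : s ≠ q := by rintro rfl; exact hs1 (a1 (by simp))
  obtain ⟨O2, hO2, b1, b2, b3⟩ := oct_through hπ h2 hO hi (S := {s, r, p})
    (by simp only [insert_subset_iff, singleton_subset_iff]; exact ⟨hs, hr, (mem_inter.1 hp).2⟩)
    (by rw [card_insert_of_notMem (by simp [n1, n2]), card_pair hr'.1])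
  have hq2 : q ∈ O2 := by
    by_contra hq2
    have h5 := even_three h2 hO2.1 b2 he h3
    have h6 : e ∩ O2 ∩ fixS π = {p} := by
      rw [inter_right_comm, h4]
      ext x
      simp only [mem_inter, mem_insert, mem_singleton]
      constructor
      · rintro ⟨rfl | rfl, h7⟩
        · rfl
        · exact absurd h7 hq2
      · rintro rfl
        exact ⟨Or.inl rfl, b1 (by simp)⟩
    rw [h6, card_singleton] at h5
    omega
  have h7 : O1 = O2 := by
    refine Golay.octad_eq_of_five_le hO1 hO2 ?_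
    have n4 : ∀ x ∈ fixS π, π i ≠ x := fun x hx h =>
      hi (by have := mem_fixS.1 hx; rw [← h, app_app h2] at this; exact this.symm)
    have n5 : ∀ x ∈ fixS π, i ≠ x := fun x hx h => hi (by rw [h]; exact mem_fixS.1 hx)
    have h8 : (insert i (insert (π i) {r, p, q}) : Finset GolayPt).card = 5 := by
      rw [card_insert_of_notMem (by
          simp [hi.symm, n5 r hr, n5 p (mem_inter.1 hp).2, n5 q (mem_inter.1 hq).2]),
        card_insert_of_notMem (by simp [n4 r hr, n4 p (mem_inter.1 hp).2, n4 q (mem_inter.1 hq).2]),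
        card_insert_of_notMem (by simpa using hr'), card_pair hpq]
    rw [← h8]
    refine card_le_card (subset_inter a1 fun x hx => ?_)
    simp only [mem_insert, mem_singleton] at hx
    rcases hx with rfl | rfl | rfl | rfl | rfl
    · exact b1 (by simp)
    · exact b1 (by simp)
    · exact b1 (by simp)
    · exact b1 (by simp)
    · exact hq2
  exact hs1 (h7 ▸ b1 (by simp))

theorem good_octad (hπ : π ∈ M24) (h2 : π * π = 1) (hO : (fixS π).card = 8) {c : Finset GolayPt}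
    (hc : c ∈ GC) (h3 : π • c = c) : ∃ O' ∈ octads, π • O' = O' ∧ (O' ∩ fixS π).card = 4 ∧
      (∀ x ∈ O' ∩ fixS π, ∀ y ∈ O' ∩ fixS π, (x ∈ c ↔ y ∈ c)) ∧
      (∀ x ∈ fixS π \ O', ∀ y ∈ fixS π \ O', (x ∈ c ↔ y ∈ c)) := by
  obtain ⟨i, -, hi⟩ : ∃ i ∈ (univ : Finset GolayPt), i ∉ fixS π :=
    exists_mem_notMem_of_card_lt_card (by rw [card_univ, card_pt]; omega)
  rw [mem_fixS] at hi
  have a1 := not_two hπ h2 hO hi hc h3
  have a2 := not_two hπ h2 hO hi (compl_mem_GC hc) (by rw [Golay.smul_compl_perm, h3])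
  have a3 : (c ∩ fixS π).card + (cᶜ ∩ fixS π).card = 8 := by
    rw [← hO, inter_comm c, inter_comm cᶜ, ← sdiff_eq_inter_compl, add_comm, card_sdiff_add_card_inter]
  have a4 := gc_inter_even hc (fix_mem_GC hπ h2)
  by_cases h4 : (c ∩ fixS π).card = 4
  · obtain ⟨S, hS, hS3⟩ := exists_subset_card_eq (s := c ∩ fixS π) (n := 3) (by omega)
    obtain ⟨O', hO', b1, b2, b3⟩ := oct_through hπ h2 hO hi (hS.trans inter_subset_right) hS3
    have b4 := even_three h2 hO'.1 b2 hc h3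
    have b5 : 3 ≤ (c ∩ O' ∩ fixS π).card := by
      rw [← hS3]
      refine card_le_card fun x hx => ?_
      have := mem_inter.1 (hS hx)
      exact mem_inter.2 ⟨mem_inter.2 ⟨this.1, b1 (by simp [hx])⟩, this.2⟩
    have b6 : c ∩ O' ∩ fixS π ⊆ O' ∩ fixS π := fun x hx => by
      simp only [mem_inter] at hx ⊢; exact ⟨hx.1.2, hx.2⟩
    have b7 : c ∩ O' ∩ fixS π ⊆ c ∩ fixS π := fun x hx => by
      simp only [mem_inter] at hx ⊢; exact ⟨hx.1.1, hx.2⟩
    have b8 := card_le_card b6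
    have b9 := eq_of_subset_of_card_le b6 (by omega)
    have b10 := eq_of_subset_of_card_le b7 (by omega)
    have b11 : ∀ x ∈ fixS π, (x ∈ c ↔ x ∈ O') := fun x hx => by
      have := Finset.ext_iff.1 (b10.symm.trans b9) x
      simpa [mem_inter, mem_fixS.1 hx] using this
    refine ⟨O', hO', b2, b3, fun x hx y hy => ?_, fun x hx y hy => ?_⟩
    · rw [mem_inter] at hx hy
      rw [b11 x hx.2, b11 y hy.2]; simp [hx.1, hy.1]
    · rw [mem_sdiff] at hx hy
      rw [b11 x hx.1, b11 y hy.1]; simp [hx.2, hy.2]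
  · obtain ⟨S, hS, hS3⟩ := exists_subset_card_eq (s := fixS π) (n := 3) (by omega)
    obtain ⟨O', hO', b1, b2, b3⟩ := oct_through hπ h2 hO hi hS hS3
    have b4 : ∀ x ∈ fixS π, ∀ y ∈ fixS π, (x ∈ c ↔ y ∈ c) := by
      have b5 : (c ∩ fixS π).card = 0 ∨ (cᶜ ∩ fixS π).card = 0 := by omega
      intro x hx y hy
      rcases b5 with b5 | b5 <;> rw [card_eq_zero] at b5
      · have b6 : ∀ x ∈ fixS π, x ∉ c := fun x hx h => notMem_empty x (b5 ▸ mem_inter.2 ⟨h, hx⟩)
        simp [b6 x hx, b6 y hy]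
      · have b6 : ∀ x ∈ fixS π, x ∈ c := fun x hx => by
          by_contra h
          exact notMem_empty x (b5 ▸ mem_inter.2 ⟨mem_compl.2 h, hx⟩)
        simp [b6 x hx, b6 y hy]
    exact ⟨O', hO', b2, b3, fun x hx y hy => b4 x (mem_inter.1 hx).2 y (mem_inter.1 hy).2,
      fun x hx y hy => b4 x (mem_sdiff.1 hx).1 y (mem_sdiff.1 hy).1⟩

theorem inv_eq_self (h2 : π * π = 1) : π⁻¹ = π := inv_eq_of_mul_eq_one_right h2

theorem eigen_fix (hπ : π ∈ M24) (h2 : π * π = 1) {c T : Finset GolayPt} (hc : c ∈ GC)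
    (hT : T.card = 4) (h1 : T ⊆ fixS π) (h3 : ∀ x ∈ T, ∀ y ∈ T, (x ∈ c ↔ y ∈ c))
    (M : Finset GolayPt) :
    (sg c * pe π) • tv T M = tv T M ∨ (sg c * pe π) • tv T M = -tv T M := by
  have h4 : ∀ k, k ∉ T → π k ∉ T := fun k hk h => hk (by
    have := mem_fixS.1 (h1 h); rw [app_app h2] at this; rwa [this])
  obtain ⟨b, hb⟩ : T.Nonempty := card_pos.1 (by omega)
  by_cases h5 : b ∈ c
  · refine Or.inr (Subtype.ext (funext fun k => ?_))
    rw [nm_apply hc hπ, inv_eq_self h2, neg_apply]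
    by_cases hk : k ∈ T
    · rw [mem_fixS.1 (h1 hk), sgn_neg ((h3 b hb k hk).1 h5)]; ring
    · rw [tv_out hT M hk, tv_out hT M (h4 k hk)]; ring
  · refine Or.inl (Subtype.ext (funext fun k => ?_))
    rw [nm_apply hc hπ, inv_eq_self h2]
    by_cases hk : k ∈ T
    · rw [mem_fixS.1 (h1 hk), sgn_pos fun h => h5 ((h3 b hb k hk).2 h)]; ring
    · rw [tv_out hT M hk, tv_out hT M (h4 k hk)]; ring

theorem eigen_move (hπ : π ∈ M24) (h2 : π * π = 1) {c T : Finset GolayPt} (hc : c ∈ GC)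
    (h3 : π • c = c) (hT : T.card = 4) (h1 : ∀ x ∈ T, π x ∈ T) (h4 : ∀ x ∈ T, π x ≠ x) :
    ∃ M, (sg c * pe π) • tv T M = tv T M := by
  refine ⟨c.filter fun k => Golay.idx k < Golay.idx (π k), Subtype.ext (funext fun k => ?_)⟩
  rw [nm_apply hc hπ, inv_eq_self h2]
  by_cases hk : k ∈ T
  · rw [tv_in hT _ hk, tv_in hT _ (h1 k hk)]
    have h5 : Golay.idx k ≠ Golay.idx (π k) := fun h => h4 k hk (Golay.idx_inj h).symm
    by_cases h6 : k ∈ c
    · have h7 := smul_eq_of_inv h3 h6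
      by_cases h8 : Golay.idx k < Golay.idx (π k)
      · rw [sgn_neg h6, sgn_neg (mem_filter.2 ⟨h6, h8⟩), sgn_pos (i := π k) fun h => by
          have := (mem_filter.1 h).2; rw [app_app h2] at this; omega]
        ring
      · rw [sgn_neg h6, sgn_pos (i := k) fun h => h8 (mem_filter.1 h).2,
          sgn_neg (mem_filter.2 ⟨h7, by rw [app_app h2]; omega⟩)]
        ring
    · have h7 : π k ∉ c := fun h => h6 (by have := smul_eq_of_inv h3 h; rwa [app_app h2] at this)
      rw [sgn_pos h6, sgn_pos fun h => h6 (mem_filter.1 h).1, sgn_pos fun h => h7 (mem_filter.1 h).1]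
      ring
  · rw [tv_out hT _ hk, tv_out hT _ fun h => hk (by have := h1 _ h; rwa [app_app h2] at this)]
    ring

theorem conj_fix {a g : Co0} (ha : g * a * g⁻¹ ∈ NN) {v : leechLattice} {j : GolayPt}
    (h1 : a • v = v ∨ a • v = -v) (h2 : g • v = e8 j ∨ g • v = -e8 j) :
    rh (g * a * g⁻¹) j = j := by
  refine pm_e8_inj (rh_e8 ha j) ?_
  have h3 : (g * a * g⁻¹) • g • v = g • a • v := by
    rw [← mul_smul, inv_mul_cancel_right, mul_smul]
  rcases h1 with h1 | h1 <;> rcases h2 with h2 | h2 <;> rw [h1] at h3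
  · rw [h2] at h3; exact Or.inl h3
  · rw [h2, co_neg, neg_inj] at h3; exact Or.inl h3
  · rw [co_neg, h2] at h3; exact Or.inr h3
  · rw [co_neg, h2, co_neg, neg_inj] at h3
    exact Or.inr h3

theorem tv_disj {g : Co0} {T T' M M' : Finset GolayPt} (h : T.card = 4) (h' : T'.card = 4)
    (hd : Disjoint T T') {j : GolayPt} (h1 : g • tv T M = e8 j ∨ g • tv T M = -e8 j)
    (h2 : g • tv T' M' = e8 j ∨ g • tv T' M' = -e8 j) : False := by
  obtain ⟨b, hb⟩ : T.Nonempty := card_pos.1 (by omega)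
  have hb' := disjoint_left.1 hd hb
  have h3 := sgn_cases M b
  rcases pm_of_pm h1 h2 with h4 | h4 <;>
  · have h5 := congrArg (fun u : leechLattice => u.1 b) h4
    simp only [neg_apply, tv_in h M hb, tv_out h' M' hb'] at h5
    omega

theorem four_axes {g : Co0} {T T' M' : Finset GolayPt} (h : T.card = 4) (h' : T'.card = 4)
    (hc : T ∆ T' ∈ GC) (hg : g • tv T' M' = e8 none) :
    ∃ J : Finset GolayPt, J.card = 4 ∧ ∀ j ∈ J, ∃ M, g • tv T M = e8 j ∨ g • tv T M = -e8 j := by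
  obtain ⟨b, hb⟩ : T.Nonempty := card_pos.1 (by omega)
  obtain ⟨M, hM⟩ : ∃ M : Finset GolayPt, ((M ∩ T).card + 1) % 2 = (M' ∩ T').card % 2 := by
    rcases Nat.mod_two_eq_zero_or_one (M' ∩ T').card with h1 | h1
    · exact ⟨{b}, by rw [singleton_inter_of_mem hb, card_singleton, h1]⟩
    · exact ⟨∅, by rw [empty_inter, card_empty, h1]⟩
  obtain ⟨f, hf, hf'⟩ := axes h h' hc hM hg
  refine ⟨T.image f, by rw [card_image_of_injOn hf, h], fun j hj => ?_⟩
  obtain ⟨x, hx, rfl⟩ := mem_image.1 hj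
  exact ⟨_, hf' x hx⟩

theorem rh_sq {a : Co0} (ha : a ∈ NN) (h2 : a * a = 1) : rh a * rh a = 1 := by
  rw [← rh_mul ha ha, h2, ← pe_one, rh_pe M24.one_mem]

theorem conj_sq {G : Type*} [Group G] {a : G} (g : G) (h2 : a * a = 1) :
    g * a * g⁻¹ * (g * a * g⁻¹) = 1 := by
  calc g * a * g⁻¹ * (g * a * g⁻¹) = g * (a * a) * g⁻¹ := by group
    _ = 1 := by rw [h2]; group

theorem step_two {a : Co0} (ha : a ∈ NN) (h2 : a * a = 1) (hO : (fixS (rh a)).card = 8) :
    ∃ g : Co0, g * a * g⁻¹ ∈ EE := by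
  have h2' := rh_sq ha h2
  obtain ⟨c, hc, π, hπ, rfl⟩ := ha
  rw [rh_eq hc hπ] at hO h2'
  have h3 : π • c = c := by
    rw [nm_mul hc hπ hc hπ, h2', pe_one, mul_one, ← sg_empty] at h2
    exact (symmDiff_eq_bot.1 (sg_inj (symmDiff_mem_GC hc (smul_mem_GC hπ hc)) empty_mem_GC h2)).symm
  obtain ⟨O', hO', b1, b2, b3, b4⟩ := good_octad hπ h2' hO hc h3
  have c1 : (O' \ fixS π).card = 4 := by
    have := card_sdiff_add_card_inter O' (fixS π)
    have := hO'.2
    omega
  have c2 : (fixS π \ O').card = 4 := by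
    have := card_sdiff_add_card_inter (fixS π) O'
    rw [inter_comm] at this
    omega
  obtain ⟨M, hM⟩ := eigen_move hπ h2' hc h3 c1 (fun x hx => by
      rw [mem_sdiff, mem_fixS] at hx ⊢
      exact ⟨smul_eq_of_inv b1 hx.1, fun h => hx.2 (by rw [app_app h2'] at h; exact h.symm)⟩)
    fun x hx => by rw [mem_sdiff, mem_fixS] at hx; exact hx.2
  obtain ⟨g, hg⟩ := trans64 (nrm_tv c1 M)
  have hN : g * (sg c * pe π) * g⁻¹ ∈ NN := mem_NN_of_e8 (a := none) (b := none) (Or.inl (by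
    rw [← hg, ← mul_smul, inv_mul_cancel_right, mul_smul, hM]))
  obtain ⟨J1, j1, j1'⟩ := four_axes b2 c1 (by
    have : (O' ∩ fixS π) ∆ (O' \ fixS π) = O' := by
      ext x; simp only [mem_symmDiff, mem_inter, mem_sdiff]; tauto
    rw [this]; exact hO'.1) hg
  obtain ⟨J2, j2, j2'⟩ := four_axes c2 c1 (by
    have : (fixS π \ O') ∆ (O' \ fixS π) = O' ∆ fixS π := by
      ext x; simp only [mem_symmDiff, mem_sdiff]; tauto
    rw [this]; exact symmDiff_mem_GC hO'.1 (fix_mem_GC hπ h2')) hg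
  refine ⟨g, mem_EE_of_rh hN ?_⟩
  by_contra hne
  have d1 : insert none (J1 ∪ J2) ⊆ fixS (rh (g * (sg c * pe π) * g⁻¹)) := by
    intro j hj
    rw [mem_fixS]
    simp only [mem_insert, mem_union] at hj
    rcases hj with rfl | hj | hj
    · exact conj_fix hN (Or.inl hM) (Or.inl hg)
    · obtain ⟨M1, h⟩ := j1' j hj
      exact conj_fix hN (eigen_fix hπ h2' hc b2 inter_subset_right b3 M1) h
    · obtain ⟨M1, h⟩ := j2' j hj
      exact conj_fix hN (eigen_fix hπ h2' hc c2 sdiff_subset b4 M1) h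
  have d2 : (insert none (J1 ∪ J2)).card = 9 := by
    rw [card_insert_of_notMem, card_union_of_disjoint, j1, j2]
    · refine disjoint_left.2 fun j hj hj' => ?_
      obtain ⟨M1, h⟩ := j1' j hj
      obtain ⟨M2, h'⟩ := j2' j hj'
      refine tv_disj b2 c2 (disjoint_left.2 fun x hx hx' => ?_) h h'
      exact (mem_sdiff.1 hx').2 (mem_inter.1 hx).1
    · rw [mem_union]
      rintro (hj | hj)
      · obtain ⟨M1, h⟩ := j1' _ hj
        refine tv_disj b2 c1 (disjoint_left.2 fun x hx hx' => ?_) h (Or.inl hg)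
        exact (mem_sdiff.1 hx').2 (mem_inter.1 hx).2
      · obtain ⟨M1, h⟩ := j2' _ hj
        refine tv_disj c2 c1 (disjoint_left.2 fun x hx hx' => ?_) h (Or.inl hg)
        exact (mem_sdiff.1 hx').2 (mem_sdiff.1 hx).1
  have d3 := card_le_card d1
  have d4 := card_fix (rh_mem hN) (rh_sq hN (conj_sq g h2)) hne
  omega

theorem step_one {a : Co0} (ha : a ∈ NN) (h2 : a * a = 1) (hO : (fixS (rh a)).card = 0) :
    ∃ g : Co0, g * a * g⁻¹ ∈ NN ∧ rh (g * a * g⁻¹) none = none := by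
  have h2' := rh_sq ha h2
  obtain ⟨c, hc, π, hπ, rfl⟩ := ha
  rw [rh_eq hc hπ] at hO h2'
  have h1 : ∀ i, π i ≠ i := fun i h => notMem_empty i (card_eq_zero.1 hO ▸ mem_fixS.2 h)
  obtain ⟨k, -, hk⟩ : ∃ k ∈ (univ : Finset GolayPt), k ∉ ({none, π none} : Finset GolayPt) :=
    exists_mem_notMem_of_card_lt_card (by
      rw [card_univ, card_pt]; have := card_le_two (a := none) (b := π none); omega)
  simp only [mem_insert, mem_singleton, not_or] at hk
  have h3 : π k ≠ none := fun h => hk.2 (by rw [← h, app_app h2'])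
  have h4 : nrm (v44 none k + (sg c * pe π) • v44 none k) = 64 := by
    rw [nrm_add, nrm_smul, nrm_v44 (Ne.symm hk.1), dt_comm, dt_v44, nm_apply hc hπ, nm_apply hc hπ,
      inv_eq_self h2', v44_apply, v44_apply, del_ne (h1 _), del_ne (h1 _), del_ne h3,
      del_ne (Ne.symm hk.2)]
    ring
  obtain ⟨g, hg⟩ := trans64 h4
  have h5 : (sg c * pe π) • (v44 none k + (sg c * pe π) • v44 none k) =
      v44 none k + (sg c * pe π) • v44 none k := by
    rw [co_add, ← mul_smul, h2, one_smul, add_comm]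
  have hN : g * (sg c * pe π) * g⁻¹ ∈ NN := mem_NN_of_e8 (a := none) (b := none) (Or.inl (by
    rw [← hg, ← mul_smul, inv_mul_cancel_right, mul_smul, h5]))
  exact ⟨g, hN, conj_fix hN (Or.inl h5) (Or.inl hg)⟩

/-- every involution of `Co0` is conjugate to a sign change -/
theorem inv_conj_EE {a : Co0} (h2 : a * a = 1) : ∃ g : Co0, g * a * g⁻¹ ∈ EE := by
  have key : ∀ b : Co0, b ∈ NN → b * b = 1 → (fixS (rh b)).card ≠ 0 → ∃ g : Co0, g * b * g⁻¹ ∈ EE := by
    intro b hb hb2 h0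
    by_cases h1 : rh b = 1
    · exact ⟨1, by simpa using mem_EE_of_rh hb h1⟩
    · exact step_two hb hb2 ((card_fix (rh_mem hb) (rh_sq hb hb2) h1).resolve_left h0)
  obtain ⟨g, hg⟩ := conj_into_NN (P := Subgroup.zpowers a) (isPGroup_of_sq (by
    rintro _ ⟨n, rfl⟩
    show a ^ n * a ^ n = 1
    rw [← Commute.mul_zpow (Commute.refl a), h2, one_zpow]))
  have h3 := hg a (Subgroup.mem_zpowers a)
  have h4 := conj_sq g h2
  by_cases h0 : (fixS (rh (g * a * g⁻¹))).card = 0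
  · obtain ⟨g', h5, h6⟩ := step_one h3 h4 h0
    obtain ⟨g'', h7⟩ := key _ h5 (conj_sq g' h4) (card_ne_zero.2 ⟨none, mem_fixS.2 h6⟩)
    exact ⟨g'' * g' * g, by simpa only [mul_inv_rev, mul_assoc] using h7⟩
  · obtain ⟨g'', h7⟩ := key _ h3 h4 h0
    exact ⟨g'' * g, by simpa only [mul_inv_rev, mul_assoc] using h7⟩

end Cfsg.Lib.Dot0
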