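import Cfsg.Agent.Lib.Dot0.Fus
import Cfsg.Agent.Lib.ZStar.Main
import Cfsg.Agent.Lib.Coprime.Sylow
import Cfsg.Prelude.Def_Local
import Cfsg.Prelude.Def_CaseTheorems

/-! A standard subgroup isomorphic to `Co0` whose centralizer has cyclic Sylow 2-subgroups. -/

set_option autoImplicit false
set_option maxHeartbeats 400000

namespace Cfsg.Lib.Dot0

open Cfsg.Lib.Leech
open scoped Pointwise symmDiff

variable {G : Type*} [Group G]

/-- the centralizer of the image -/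
def KK (ι : Co0 →* G) : Subgroup G := Subgroup.centralizer (ι.range : Set G)

theorem mem_KK {ι : Co0 →* G} {k : G} : k ∈ KK ι ↔ ∀ y, Commute k (ι y) := by
  rw [KK, Subgroup.mem_centralizer_iff]
  exact ⟨fun h y => (h _ ⟨y, rfl⟩).symm, by rintro h _ ⟨y, rfl⟩; exact (h y).symm⟩

/-- the local hypotheses -/
structure Hyp (ι : Co0 →* G) (n : ℕ) : Prop where
  inj : Function.Injective ι
  dec : ∀ x : G, Commute x (ι zz) → ∃ a, ∃ k ∈ KK ι, x = ι a * k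
  inv : ∀ k ∈ KK ι, k * k = 1 → k = 1 ∨ k = ι zz
  exp : ∀ k ∈ KK ι, ∀ m : ℕ, k ^ 2 ^ m = 1 → k ^ 2 ^ (n + 1) = 1
  gen : ∀ k ∈ KK ι, ∀ m : ℕ, k ^ 2 ^ m = 1 → ∃ r ∈ KK ι, Commute r k ∧ r ^ 2 ^ n = ι zz
  comm : ∀ P : Subgroup G, P ≤ KK ι → IsPGroup 2 P → ∀ a ∈ P, ∀ b ∈ P, Commute a b

theorem mem_KK_map {ι : Co0 →* G} (ψ : G ≃* G) {k : G} :
    ψ k ∈ KK (ψ.toMonoidHom.comp ι) ↔ k ∈ KK ι := by
  rw [mem_KK, mem_KK]
  exact forall_congr' fun y => commute_map_iff ψ.injective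

theorem Hyp.map {ι : Co0 →* G} {n : ℕ} (H : Hyp ι n) (ψ : G ≃* G) :
    Hyp (ψ.toMonoidHom.comp ι) n where
  inj := ψ.injective.comp H.inj
  dec x hx := by
    obtain ⟨y, rfl⟩ := ψ.surjective x
    obtain ⟨a, k, hk, rfl⟩ := H.dec y ((commute_map_iff ψ.injective).1 hx)
    exact ⟨a, ψ k, (mem_KK_map ψ).2 hk, map_mul ψ _ _⟩
  inv x hx h := by
    obtain ⟨y, rfl⟩ := ψ.surjective x
    rw [← map_mul, ψ.map_eq_one_iff] at h
    rcases H.inv y ((mem_KK_map ψ).1 hx) h with rfl | rfl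
    · exact Or.inl (map_one ψ)
    · exact Or.inr rfl
  exp x hx m h := by
    obtain ⟨y, rfl⟩ := ψ.surjective x
    rw [← map_pow, ψ.map_eq_one_iff] at h ⊢
    exact H.exp y ((mem_KK_map ψ).1 hx) m h
  gen x hx m h := by
    obtain ⟨y, rfl⟩ := ψ.surjective x
    rw [← map_pow, ψ.map_eq_one_iff] at h
    obtain ⟨r, hr, h1, h2⟩ := H.gen y ((mem_KK_map ψ).1 hx) m h
    exact ⟨ψ r, (mem_KK_map ψ).2 hr, h1.map ψ, by rw [← map_pow, h2]; rfl⟩
  comm P hP h2 a ha b hb := by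
    obtain ⟨x, rfl⟩ := ψ.surjective a
    obtain ⟨y, rfl⟩ := ψ.surjective b
    exact (H.comm (P.comap ψ.toMonoidHom) (fun k hk => (mem_KK_map ψ).1 (hP hk))
      (h2.comap_of_injective _ ψ.injective) x ha y hb).map ψ

theorem zz_mem_KK (ι : Co0 →* G) : ι zz ∈ KK ι :=
  mem_KK.2 fun y => (show Commute zz y from zz_comm y).map ι

theorem zz_sq' (ι : Co0 →* G) : ι zz * ι zz = 1 := by rw [← map_mul, zz_sq, map_one]

namespace Hyp

variable {ι ι' : Co0 →* G} {n : ℕ}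

theorem inter (H : Hyp ι n) {a : Co0} (h : ι a ∈ KK ι) : ι a = 1 ∨ ι a = ι zz := by
  rcases mem_center_co0 (g := a) fun x => H.inj (by
    rw [map_mul, map_mul]; exact (mem_KK.1 h x).eq) with rfl | rfl
  · exact Or.inl (map_one ι)
  · exact Or.inr rfl

theorem ne_one (H : Hyp ι n) : ι zz ≠ 1 := fun h => zz_ne_one (H.inj (h.trans (map_one ι).symm))

theorem pow_part (H : Hyp ι n) {a : Co0} {k : G} (hk : k ∈ KK ι) {m : ℕ} (h : (ι a * k) ^ m = 1) :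
    k ^ m = 1 ∨ k ^ m = ι zz := by
  rw [(mem_KK.1 hk a).symm.mul_pow, ← map_pow, ← eq_inv_iff_mul_eq_one, ← inv_eq_iff_eq_inv,
    ← map_inv] at h
  rw [← h]
  exact H.inter (h ▸ (KK ι).pow_mem hk m)

theorem pow_part' (H : Hyp ι n) {a : Co0} {k : G} (hk : k ∈ KK ι) {m : ℕ}
    (h : (ι a * k) ^ 2 ^ m = 1) : k ^ 2 ^ (m + 1) = 1 := by
  rw [pow_succ, pow_mul, sq]
  rcases H.pow_part hk h with h1 | h1 <;> rw [h1]
  · exact one_mul 1
  · exact zz_sq' ι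

theorem mem_range (H : Hyp ι n) (H' : Hyp ι' n) (h : Commute (ι' zz) (ι zz)) :
    ∃ b, ι zz = ι' b := by
  obtain ⟨a, k, hk, h1⟩ := H.dec _ h
  have h2 : k ^ 2 ^ (1 + 1) = 1 := H.pow_part' hk (a := a) (by rw [← h1, pow_one, sq, zz_sq'])
  obtain ⟨r, hr, h3, h4⟩ := H.gen k hk _ h2
  obtain ⟨a', k', hk', h5⟩ := H'.dec r (by rw [h1]; exact (mem_KK.1 hr a).mul_right h3)
  have h6 : k' ^ 2 ^ (n + 1 + 1) = 1 := H'.pow_part' hk' (a := a') (by
    rw [← h5, pow_succ, pow_mul, h4, sq, zz_sq'])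
  have h7 := H'.exp k' hk' _ h6
  rw [pow_succ, pow_mul, sq] at h7
  rw [h5, (mem_KK.1 hk' a').symm.mul_pow, ← map_pow] at h4
  rcases H'.inv _ ((KK ι').pow_mem hk' _) h7 with h8 | h8 <;> rw [h8] at h4
  · exact ⟨_, by rw [← h4, mul_one]⟩
  · exact ⟨_, by rw [← h4, ← map_mul]⟩

theorem no_four [Finite G] (H : Hyp ι n) (H' : Hyp ι' n) (hne : ι' zz ≠ ι zz) {a b : Co0}
    (ha : ι' zz = ι a) (hb : ι zz = ι' b) {k : G} (hk : k ∈ KK ι) : k * k ≠ ι zz := by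
  intro h2
  haveI : Fact (Nat.Prime 2) := ⟨Nat.prime_two⟩
  obtain ⟨h, hh⟩ := inv_conj_EE (a := b) (H'.inj (by rw [map_mul, ← hb, zz_sq', map_one]))
  let D : Subgroup G := Subgroup.centralizer {ι zz} ⊓ Subgroup.centralizer {ι' zz}
  have hD : ∀ x, x ∈ D ↔ Commute x (ι zz) ∧ Commute x (ι' zz) := fun x => by
    simp only [D, Subgroup.mem_inf, Subgroup.mem_centralizer_singleton_iff]; rfl
  have hkD : k ∈ D := (hD k).2 ⟨mem_KK.1 hk _, ha ▸ mem_KK.1 hk _⟩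
  have hk4 : k ^ 2 ^ 2 = 1 := by
    rw [show 2 ^ 2 = 2 * 2 from rfl, pow_mul, sq, sq, h2, zz_sq']
  have hkP : IsPGroup 2 (Subgroup.zpowers k) := by
    rintro ⟨_, j, rfl⟩
    refine ⟨2, Subtype.ext ?_⟩
    show (k ^ j) ^ 2 ^ 2 = 1
    rw [← zpow_natCast, ← zpow_mul, mul_comm, zpow_mul, zpow_natCast, hk4, one_zpow]
  obtain ⟨U, hU, hkU⟩ := exists_isSylowIn_ge hkP (Subgroup.zpowers_le.2 hkD)
  let E' : Subgroup G := EE.map (ι'.comp (MulAut.conj h⁻¹).toMonoidHom)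
  obtain ⟨d, hd, h3⟩ := hU.exists_conj_le (U := E') (isPGroup_of_sq (by
      rintro _ ⟨e, he, rfl⟩; rw [← map_mul, EE_sq he, map_one])) (by
    rintro _ ⟨e, he, rfl⟩
    refine (hD _).2 ⟨?_, (mem_KK.1 (zz_mem_KK ι') _).symm⟩
    have h4 : ι zz = (ι'.comp (MulAut.conj h⁻¹).toMonoidHom) (h * b * h⁻¹) := by
      rw [hb]; show ι' b = ι' (h⁻¹ * (h * b * h⁻¹) * h⁻¹⁻¹); congr 1; group
    rw [h4]
    exact (show Commute e (h * b * h⁻¹) from EE_comm he hh).map _)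
  obtain ⟨a', k', hk', rfl⟩ := H'.dec d ((hD d).1 hd).2
  have h4 : ∀ e ∈ EE, ι' ((a' * h⁻¹) * e * (a' * h⁻¹)⁻¹) ∈ U := by
    intro e he
    have h5 : ι' a' * k' * ι' (h⁻¹ * e * h⁻¹⁻¹) * (ι' a' * k')⁻¹ ∈ U := h3 ⟨_, ⟨e, he, rfl⟩, rfl⟩
    rw [mul_assoc (ι' a'), (mem_KK.1 hk' _).eq, mul_inv_rev, ← mul_assoc, ← mul_assoc,
      mul_inv_cancel_right, ← map_inv, ← map_mul, ← map_mul] at h5
    convert h5 using 2
    group
  generalize a' * h⁻¹ = w at h4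
  let R : Subgroup G :=
    { carrier := {c | c ∈ KK ι ∧ ∃ a, ι a * c ∈ U}
      one_mem' := ⟨(KK ι).one_mem, 1, by rw [map_one, mul_one]; exact U.one_mem⟩
      mul_mem' := by
        rintro c c' ⟨hc, x, hx⟩ ⟨hc', x', hx'⟩
        refine ⟨(KK ι).mul_mem hc hc', x * x', ?_⟩
        have := U.mul_mem hx hx'
        rwa [mul_assoc, ← mul_assoc c, (mem_KK.1 hc x').eq, mul_assoc, ← mul_assoc, ← map_mul] at this
      inv_mem' := by
        rintro c ⟨hc, x, hx⟩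
        refine ⟨(KK ι).inv_mem hc, x⁻¹, ?_⟩
        have := U.inv_mem hx
        rwa [← (mem_KK.1 hc x).eq, mul_inv_rev, ← map_inv] at this }
  have hR : IsPGroup 2 R := by
    rintro ⟨c, hc, x, hx⟩
    obtain ⟨m, hm⟩ := hU.isPGroup ⟨_, hx⟩
    exact ⟨m + 1, Subtype.ext (H.pow_part' hc (a := x) (congrArg Subtype.val hm))⟩
  have hkR : k ∈ R := ⟨hk, 1, by rw [map_one, one_mul]; exact hkU (Subgroup.mem_zpowers k)⟩
  obtain ⟨a'', c'', hc'', h5⟩ := H'.dec k ((hD k).1 hkD).2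
  have h6 : w⁻¹ * a'' * w ∈ EE := by
    refine cent_EE fun c hc => ?_
    have h7 := h4 _ (sg_mem_EE hc)
    obtain ⟨x, c', hc', h8⟩ := H.dec _ ((hD _).1 (hU.le h7)).1
    have h9 : Commute k (ι' (w * sg c * w⁻¹)) := by
      rw [h8]
      exact (mem_KK.1 hk x).mul_right (H.comm R (fun _ h => h.1) hR k hkR c' ⟨hc', x, h8 ▸ h7⟩)
    have h10 : Commute (ι' a'') (ι' (w * sg c * w⁻¹)) := by
      have := h9.mul_left (mem_KK.1 hc'' _).inv_left
      rwa [h5, mul_inv_cancel_right] at this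
    have h11 := ((commute_map_iff H'.inj).1 h10).eq
    calc sg c * (w⁻¹ * a'' * w) = w⁻¹ * (w * sg c * w⁻¹ * a'') * w := by group
      _ = w⁻¹ * a'' * w * sg c := by rw [← h11]; group
  have h7 : a'' * a'' = 1 := by
    have := conj_sq w (EE_sq h6)
    rwa [show w * (w⁻¹ * a'' * w) * w⁻¹ = a'' by group] at this
  have h8 : c'' * c'' = ι zz := by
    rw [← h2, h5, mul_assoc, ← mul_assoc c'', (mem_KK.1 hc'' a'').eq, mul_assoc, ← mul_assoc,
      ← map_mul, h7, map_one, one_mul]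
  rcases H'.inv _ (h8 ▸ (KK ι').mul_mem hc'' hc'') (zz_sq' ι) with h9 | h9
  · exact H.ne_one h9
  · exact hne h9.symm

theorem fusData [Finite G] (H : Hyp ι n) :
    FusData (fun c => ι (sg c)) (Subgroup.normalizer (EE.map ι : Set G)) where
  mul c hc d hd := by rw [← map_mul, sg_mul hc hd]
  inj c hc d hd h := sg_inj hc hd (H.inj h)
  norm m hm c hc := by
    obtain ⟨_, ⟨d, hd, rfl⟩, h⟩ := (Subgroup.mem_normalizer_iff.1 hm _).1 ⟨_, sg_mem_EE hc, rfl⟩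
    exact ⟨d, hd, h.symm⟩
  real σ hσ := by
    refine ⟨ι (pe σ), Subgroup.mem_normalizer_fintype ?_, fun c hc => ?_⟩
    · rintro _ ⟨e, he, rfl⟩
      exact ⟨_, NN_conj (pe_mem_NN hσ) he, by rw [map_mul, map_mul, map_inv]⟩
    · rw [← map_inv, ← map_mul, ← map_mul, pe_conj hσ hc]
  stab m hm h := by
    obtain ⟨a, k, hk, rfl⟩ := H.dec m (mul_inv_eq_iff_eq_mul.1 h)
    have h1 : ∀ x, ι a * k * ι x * (ι a * k)⁻¹ = ι (a * x * a⁻¹) := fun x => by
      rw [mul_assoc (ι a), (mem_KK.1 hk _).eq, mul_inv_rev, ← mul_assoc, ← mul_assoc,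
        mul_inv_cancel_right, ← map_inv, ← map_mul, ← map_mul]
    have h2 : a ∈ NN := norm_EE fun c hc => by
      obtain ⟨e, he, h3⟩ := (Subgroup.mem_normalizer_iff.1 hm (ι (a⁻¹ * sg c * a))).2 (by
        rw [h1]; exact ⟨_, sg_mem_EE hc, by congr 1; group⟩)
      rwa [← H.inj h3]
    exact ⟨rh a, rh_mem h2, fun c hc => by rw [h1, rh_conj h2 hc]⟩

theorem core [Finite G] (H : Hyp ι n) {g : G} {e : Co0} (he : e ∈ EE)
    (h : g * ι zz * g⁻¹ = ι e) : g * ι zz * g⁻¹ = ι zz := by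
  by_contra hne
  have H' := H.map (MulAut.conj g)
  generalize hι : (MulAut.conj g).toMonoidHom.comp ι = ι' at H'
  have h0 : ∀ x, ι' x = g * ι x * g⁻¹ := fun x => by rw [← hι]; rfl
  rw [← h0] at h hne
  obtain ⟨b, hb⟩ := H.mem_range H' (h ▸ (mem_KK.1 (zz_mem_KK ι) e).symm)
  have h1 : ∀ x ∈ EE, ∃ y, ι x = ι' y := by
    intro x hx
    obtain ⟨a, k, hk, h2⟩ := H'.dec (ι x) (h ▸ (show Commute x e from EE_comm hx he).map ι)
    have h3 := H'.pow_part hk (a := a) (m := 2) (by rw [← h2, sq, ← map_mul, EE_sq hx, map_one])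
    rw [sq] at h3
    rcases H'.inv k hk (h3.resolve_right (H'.no_four H (Ne.symm hne) hb h hk)) with h4 | h4
    · exact ⟨a, by rw [h2, h4, mul_one]⟩
    · exact ⟨a * zz, by rw [h2, h4, map_mul]⟩
  obtain ⟨w, hw⟩ := conj_EE (F := (EE.map ι).comap ι') (by
      rintro x ⟨y, hy, h2⟩
      exact H'.inj (by rw [map_mul, ← h2, ← map_mul, EE_sq hy, map_one, map_one])) (by
    have h2 : ((EE.map ι).comap ι').map ι' = EE.map ι := Subgroup.map_comap_eq_self (by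
      rintro _ ⟨x, hx, rfl⟩
      obtain ⟨y, hy⟩ := h1 x hx
      exact ⟨y, hy.symm⟩)
    rw [← Subgroup.card_map_of_injective H'.inj, h2, Subgroup.card_map_of_injective H.inj, card_EE])
  have h2 := H.fusData.fix (m := g * (ι w)⁻¹) (Subgroup.mem_normalizer_fintype (by
    rintro _ ⟨x, hx, rfl⟩
    have h3 : ι' (w⁻¹ * x * w) ∈ EE.map ι := (hw _).2 (by
      rwa [show w * (w⁻¹ * x * w) * w⁻¹ = x by group])
    rw [h0, map_mul, map_mul, map_inv] at h3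
    rw [show g * (ι w)⁻¹ * ι x * (g * (ι w)⁻¹)⁻¹ = g * ((ι w)⁻¹ * ι x * ι w) * g⁻¹ by group]
    exact h3))
  apply hne
  rw [h0]
  have h3 : g * (ι w)⁻¹ * ι zz * (g * (ι w)⁻¹)⁻¹ = ι zz := h2
  calc g * ι zz * g⁻¹ = g * ((ι w)⁻¹ * (ι zz * ι w)) * g⁻¹ := by
        rw [(mem_KK.1 (zz_mem_KK ι) w).eq, inv_mul_cancel_left]
    _ = g * (ι w)⁻¹ * ι zz * (g * (ι w)⁻¹)⁻¹ := by group
    _ = _ := h3

theorem isolated [Finite G] (H : Hyp ι n) : IsIsolated (ι zz) := by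
  intro g hg
  obtain ⟨a, ha⟩ := (H.map (MulAut.conj g)).mem_range H hg
  have ha' : g * ι zz * g⁻¹ = ι a := ha
  obtain ⟨h, hh⟩ := inv_conj_EE (a := a) (H.inj (by
    rw [map_mul, ← ha', conj_sq g (zz_sq' ι), map_one]))
  have h1 := H.core (g := ι h * g) hh (by rw [map_mul, map_mul, map_inv, ← ha']; group)
  calc g * ι zz * g⁻¹ = (ι h)⁻¹ * (ι h * g * ι zz * (ι h * g)⁻¹) * ι h := by group
    _ = ι zz := by rw [h1, mul_assoc, (mem_KK.1 (zz_mem_KK ι) h).eq, inv_mul_cancel_left]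

end Hyp

theorem cyc_inv [Finite G] {A : Subgroup G} (h : IsCyclic A) {x y : G} (hx : x ∈ A) (hy : y ∈ A)
    (hy1 : y ≠ 1) (hx2 : x * x = 1) (hy2 : y * y = 1) : x = 1 ∨ x = y := by
  classical
  have := Fintype.ofFinite A
  by_contra hne
  rw [not_or] at hne
  have h1 := IsCyclic.card_pow_eq_one_le (α := A) (n := 2) (by norm_num)
  have h2 : ({1, ⟨x, hx⟩, ⟨y, hy⟩} : Finset A) ⊆ Finset.univ.filter (fun a : A => a ^ 2 = 1) := by
    intro a ha
    simp only [Finset.mem_insert, Finset.mem_singleton] at ha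
    rcases ha with rfl | rfl | rfl <;> simp [pow_two, Subtype.ext_iff, *]
  have h3 := Finset.card_le_card h2
  rw [Finset.card_eq_three.2 ⟨1, ⟨x, hx⟩, ⟨y, hy⟩, fun h => hne.1 (congrArg Subtype.val h).symm,
    fun h => hy1 (congrArg Subtype.val h).symm, fun h => hne.2 (congrArg Subtype.val h), rfl⟩] at h3
  omega

theorem isPGroup_zpowers' {k : G} {m : ℕ} (h : k ^ 2 ^ m = 1) : IsPGroup 2 (Subgroup.zpowers k) := by
  rintro ⟨_, j, rfl⟩
  refine ⟨m, Subtype.ext ?_⟩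
  show (k ^ j) ^ 2 ^ m = 1
  rw [← zpow_natCast, ← zpow_mul, mul_comm, zpow_mul, zpow_natCast, h, one_zpow]

theorem exists_hyp [Finite G] {ι : Co0 →* G} (hι : Function.Injective ι)
    (hA : IsStandardSubgroup ι.range) (hR : ∀ R : Sylow 2 (KK ι), IsCyclic (R : Subgroup (KK ι))) :
    ∃ n, Hyp ι n := by
  haveI : Fact (Nat.Prime 2) := ⟨Nat.prime_two⟩
  have z1 : ι zz ≠ 1 := fun h => zz_ne_one (hι (h.trans (map_one ι).symm))
  have zc : ∀ k ∈ KK ι, Commute k (ι zz) := fun k hk => mem_KK.1 hk zz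
  have hS : ∀ P, IsSylowIn 2 P (KK ι) → IsCyclic P ∧ ι zz ∈ P := by
    intro P hP
    obtain ⟨S, rfl⟩ := hP.exists_sylow
    have := hR S
    refine ⟨isCyclic_of_surjective _ ((S : Subgroup (KK ι)).equivMapOfInjective _
      (KK ι).subtype_injective).surjective, ?_⟩
    refine hP.le_of_normalizes (isPGroup_zpowers' (m := 1) (by rw [pow_one, sq, zz_sq']))
      (Subgroup.zpowers_le.2 (zz_mem_KK ι)) (fun x hx => Subgroup.mem_normalizer_fintype ?_)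
      (Subgroup.mem_zpowers _)
    rintro _ ⟨j, rfl⟩
    rw [((zc x (hP.le hx)).zpow_right j).eq, mul_inv_cancel_right]
    exact ⟨j, rfl⟩
  obtain ⟨n, hn⟩ : ∃ n, (Nat.card (KK ι)).factorization 2 = n + 1 := by
    refine Nat.exists_eq_succ_of_ne_zero (Nat.pos_iff_ne_zero.1 ?_)
    exact Nat.prime_two.factorization_pos_of_dvd Nat.card_pos.ne' (even_iff_two_dvd.1 hA.2.1.1)
  have hinv : ∀ k ∈ KK ι, k * k = 1 → k = 1 ∨ k = ι zz := by
    intro k hk h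
    obtain ⟨P, hP, h1⟩ := exists_isSylowIn_ge (isPGroup_zpowers' (m := 1) (by rw [pow_one, sq, h]))
      (Subgroup.zpowers_le.2 hk)
    exact cyc_inv (hS P hP).1 (h1 (Subgroup.mem_zpowers k)) (hS P hP).2 z1 h (zz_sq' ι)
  refine ⟨n, hι, fun x hx => ?_, hinv, fun k hk m h => ?_, fun k hk m h => ?_, fun P hP h2 a ha b hb => ?_⟩
  · have h1 : x ∈ Subgroup.normalizer (ι.range : Set G) := by
      rw [hA.2.2.2]
      by_contra h1
      have h2 := hA.2.1.2 x h1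
      have h3 : ι zz ∈ KK ι ⊓ (KK ι).map (MulAut.conj x).toMonoidHom :=
        ⟨zz_mem_KK ι, ι zz, zz_mem_KK ι, by
          show x * ι zz * x⁻¹ = ι zz
          rw [hx.eq, mul_inv_cancel_right]⟩
      have h4 := Subgroup.orderOf_dvd_natCard _ h3
      rw [orderOf_eq_prime (by rw [sq, zz_sq']) z1] at h4
      exact (Nat.not_even_iff_odd.2 h2) (even_iff_two_dvd.2 h4)
    let e : Co0 ≃* ι.range := MonoidHom.ofInjective hι
    obtain ⟨a, ha⟩ := aut_inner ((e.trans (ι.range.normalizerMonoidHom ⟨x, h1⟩)).trans e.symm)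
    refine ⟨a, (ι a)⁻¹ * x, mem_KK.2 fun y => ?_, by group⟩
    have h5 : x * ι y * x⁻¹ = ι (a * y * a⁻¹) := by
      rw [← ha y]
      exact (congrArg Subtype.val (e.apply_symm_apply (ι.range.normalizerMonoidHom ⟨x, h1⟩ (e y)))).symm
    rw [map_mul, map_mul, map_inv] at h5
    calc (ι a)⁻¹ * x * ι y = (ι a)⁻¹ * (x * ι y * x⁻¹) * x := by group
      _ = ι y * ((ι a)⁻¹ * x) := by rw [h5]; group
  · obtain ⟨P, hP, h1⟩ := exists_isSylowIn_ge (isPGroup_zpowers' h) (Subgroup.zpowers_le.2 hk)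
    rw [← hn, ← hP.card_eq]
    exact congrArg Subtype.val (pow_card_eq_one' (x := (⟨k, h1 (Subgroup.mem_zpowers k)⟩ : P)))
  · obtain ⟨P, hP, h1⟩ := exists_isSylowIn_ge (isPGroup_zpowers' h) (Subgroup.zpowers_le.2 hk)
    obtain ⟨r, hr⟩ := (hS P hP).1.exists_generator
    have h2 : orderOf r = 2 ^ (n + 1) := by
      rw [orderOf_eq_card_of_forall_mem_zpowers hr, hP.card_eq, hn]
    obtain ⟨j, hj⟩ := hr ⟨k, h1 (Subgroup.mem_zpowers k)⟩
    have hj' : r.1 ^ j = k := congrArg Subtype.val hj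
    refine ⟨r.1, hP.le r.2, hj' ▸ Commute.self_zpow _ _, ?_⟩
    refine (hinv _ ((KK ι).pow_mem (hP.le r.2) _) ?_).resolve_left fun h3 => ?_
    · rw [← sq, ← pow_mul, ← pow_succ, ← h2]
      exact congrArg Subtype.val (pow_orderOf_eq_one r)
    · have h4 : orderOf r ∣ 2 ^ n := orderOf_dvd_of_pow_eq_one (Subtype.ext h3)
      rw [h2, Nat.pow_dvd_pow_iff_le_right (by norm_num)] at h4
      omega
  · obtain ⟨Q, hQ, h1⟩ := exists_isSylowIn_ge h2 hP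
    have := (hS Q hQ).1
    exact congrArg Subtype.val (mul_comm' (⟨a, h1 ha⟩ : Q) ⟨b, h1 hb⟩)

theorem standard_co0 [Finite G] (hO : oddCore G = ⊥) (A : Subgroup G) (hA : IsStandardSubgroup A)
    (hAX : Nonempty (A ≃* Co0)) (hR : ∀ R : Sylow 2 (Subgroup.centralizer (A : Set G)),
      IsCyclic (R : Subgroup (Subgroup.centralizer (A : Set G)))) : A.Normal := by
  obtain ⟨e⟩ := hAX
  obtain ⟨ι, hι, rfl⟩ : ∃ ι : Co0 →* G, Function.Injective ι ∧ ι.range = A := by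
    refine ⟨A.subtype.comp e.symm.toMonoidHom, A.subtype_injective.comp e.symm.injective, ?_⟩
    rw [MonoidHom.range_comp, MonoidHom.range_eq_top.2 e.symm.surjective, ← MonoidHom.range_eq_map,
      Subgroup.range_subtype]
  obtain ⟨n, H⟩ := exists_hyp hι hA hR
  have h1 := zstar_center hO (by rw [sq, zz_sq']) H.isolated
  refine ⟨?_⟩
  rintro _ ⟨y, rfl⟩ g
  obtain ⟨a, k, hk, rfl⟩ := H.dec g (Subgroup.mem_center_iff.1 h1 g)
  refine ⟨a * y * a⁻¹, ?_⟩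
  rw [mul_assoc (ι a), (mem_KK.1 hk _).eq, mul_inv_rev, ← mul_assoc, ← mul_assoc,
    mul_inv_cancel_right, ← map_inv, ← map_mul, ← map_mul]

end Cfsg.Lib.Dot0
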