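import Cfsg.Agent.Lib.Dot0.FF

/-! The monomial group `2^12 : M24` of `Co0` and its normal subgroup of sign changes. -/

set_option autoImplicit false
set_option maxHeartbeats 400000

namespace Cfsg.Lib.Dot0

open Finset Cfsg.Lib.Leech
open scoped Pointwise symmDiff

variable {c d : Finset GolayPt} {σ τ : Equiv.Perm GolayPt}

open Classical in
/-- a permutation of the coordinates, as a total function -/
noncomputable def pe (σ : Equiv.Perm GolayPt) : Co0 := if h : σ ∈ M24 then permEl σ h else 1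

theorem pe_eq (h : σ ∈ M24) : pe σ = permEl σ h := dif_pos h

theorem sg_apply (hc : c ∈ GC) (x : leechLattice) (i : GolayPt) :
    (sg c • x).1 i = sgn c i * x.1 i := by rw [sg_eq hc, sgnEl_apply]

theorem pe_apply (hσ : σ ∈ M24) (x : leechLattice) (i : GolayPt) :
    (pe σ • x).1 i = x.1 (σ⁻¹ i) := by rw [pe_eq hσ, permEl_apply]

theorem nm_apply (hc : c ∈ GC) (hσ : σ ∈ M24) (x : leechLattice) (i : GolayPt) :
    ((sg c * pe σ) • x).1 i = sgn c i * x.1 (σ⁻¹ i) := by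
  rw [mul_smul, sg_apply hc, pe_apply hσ]

theorem sg_mul (hc : c ∈ GC) (hd : d ∈ GC) : sg c * sg d = sg (c ∆ d) := by
  rw [sg_eq hc, sg_eq hd, sgnEl_mul, sg_eq]

theorem sg_empty : sg ∅ = 1 := by rw [sg_eq empty_mem_GC, sgnEl_empty]

theorem sg_sq (c : Finset GolayPt) : sg c * sg c = 1 := by
  by_cases hc : c ∈ GC
  · rw [sg_mul hc hc, symmDiff_self]; exact sg_empty
  · have : sg c = 1 := dif_neg hc
    rw [this, mul_one]

theorem sg_inv (c : Finset GolayPt) : (sg c)⁻¹ = sg c := inv_eq_of_mul_eq_one_right (sg_sq c)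

theorem sg_comm (hc : c ∈ GC) (hd : d ∈ GC) : sg c * sg d = sg d * sg c := by
  rw [sg_mul hc hd, sg_mul hd hc, symmDiff_comm]

theorem pe_mul (hσ : σ ∈ M24) (hτ : τ ∈ M24) : pe σ * pe τ = pe (σ * τ) := by
  rw [pe_eq hσ, pe_eq hτ, pe_eq (M24.mul_mem hσ hτ)]
  exact (permHom.map_mul ⟨σ, hσ⟩ ⟨τ, hτ⟩).symm

theorem pe_one : pe 1 = 1 := by
  rw [pe_eq M24.one_mem]; exact permHom.map_one

theorem pe_inv (hσ : σ ∈ M24) : (pe σ)⁻¹ = pe σ⁻¹ :=
  inv_eq_of_mul_eq_one_right (by rw [pe_mul hσ (M24.inv_mem hσ), mul_inv_cancel, pe_one])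

theorem pe_pow (hσ : σ ∈ M24) (n : ℕ) : pe σ ^ n = pe (σ ^ n) := by
  induction n with
  | zero => rw [pow_zero, pow_zero, pe_one]
  | succ n ih => rw [pow_succ, pow_succ, ih, pe_mul (M24.pow_mem hσ n) hσ]

theorem pe_sg (hσ : σ ∈ M24) (hc : c ∈ GC) : pe σ * sg c = sg (σ • c) * pe σ := by
  rw [pe_eq hσ, sg_eq hc, permEl_sgnEl, sg_eq]

theorem pe_conj (hσ : σ ∈ M24) (hc : c ∈ GC) : pe σ * sg c * (pe σ)⁻¹ = sg (σ • c) := by
  rw [pe_sg hσ hc, mul_inv_cancel_right]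

theorem nm_mul (hc : c ∈ GC) (hσ : σ ∈ M24) (hd : d ∈ GC) (hτ : τ ∈ M24) :
    (sg c * pe σ) * (sg d * pe τ) = sg (c ∆ (σ • d)) * pe (σ * τ) := by
  rw [← sg_mul hc (smul_mem_GC hσ hd), ← pe_mul hσ hτ, mul_assoc, mul_assoc, ← mul_assoc (pe σ),
    pe_sg hσ hd, mul_assoc]

theorem nm_conj (hc : c ∈ GC) (hσ : σ ∈ M24) (hd : d ∈ GC) :
    (sg c * pe σ) * sg d * (sg c * pe σ)⁻¹ = sg (σ • d) := by
  have h1 := smul_mem_GC hσ hd
  calc (sg c * pe σ) * sg d * (sg c * pe σ)⁻¹ = sg c * (pe σ * sg d * (pe σ)⁻¹) * (sg c)⁻¹ := by group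
    _ = sg (σ • d) := by rw [pe_conj hσ hd, sg_comm hc h1, mul_inv_cancel_right]

theorem neg_apply (x : leechLattice) (i : GolayPt) : (-x).1 i = -x.1 i := rfl
theorem add_apply (x y : leechLattice) (i : GolayPt) : (x + y).1 i = x.1 i + y.1 i := rfl
theorem sub_apply (x y : leechLattice) (i : GolayPt) : (x - y).1 i = x.1 i - y.1 i := rfl

theorem sgn_cases (c : Finset GolayPt) (i : GolayPt) : sgn c i = 1 ∨ sgn c i = -1 := by
  unfold sgn; split_ifs <;> simp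

theorem sgn_pos {i : GolayPt} (h : i ∉ c) : sgn c i = 1 := by simp [sgn, h]
theorem sgn_neg {i : GolayPt} (h : i ∈ c) : sgn c i = -1 := by simp [sgn, h]

theorem nm_e8 (hc : c ∈ GC) (hσ : σ ∈ M24) (i : GolayPt) :
    (sg c * pe σ) • e8 i = e8 (σ i) ∨ (sg c * pe σ) • e8 i = -e8 (σ i) := by
  rw [mul_smul, pe_eq hσ, permEl_e8, sg_eq hc]
  by_cases h : σ i ∈ c
  · exact Or.inr (sgnEl_e8' c hc h)
  · exact Or.inl (sgnEl_e8 c hc h)

theorem pm_e8_inj {u : leechLattice} {i j : GolayPt} (h1 : u = e8 i ∨ u = -e8 i)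
    (h2 : u = e8 j ∨ u = -e8 j) : i = j := by
  by_contra hne
  have h3 : u.1 i ≠ 0 := by
    rcases h1 with h | h <;> rw [h] <;> simp only [neg_apply, e8_apply, del_self] <;> omega
  apply h3
  rcases h2 with h | h <;> rw [h] <;> simp only [neg_apply, e8_apply, del_ne hne] <;> omega

theorem sg_inj (hc : c ∈ GC) (hd : d ∈ GC) (h : sg c = sg d) : c = d := by
  ext i
  have h1 := sg_apply hc (e8 i) i
  rw [h, sg_apply hd, e8_apply, del_self] at h1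
  by_cases h2 : i ∈ c <;> by_cases h3 : i ∈ d <;> simp [sgn, h2, h3] at h1 ⊢

theorem nm_inj (hc : c ∈ GC) (hσ : σ ∈ M24) (hd : d ∈ GC) (hτ : τ ∈ M24)
    (h : sg c * pe σ = sg d * pe τ) : c = d ∧ σ = τ := by
  have h1 : σ = τ := Equiv.ext fun i => pm_e8_inj (nm_e8 hc hσ i) (h ▸ nm_e8 hd hτ i)
  subst h1
  exact ⟨sg_inj hc hd (mul_right_cancel h), rfl⟩

theorem pe_inj (hσ : σ ∈ M24) (hτ : τ ∈ M24) (h : pe σ = pe τ) : σ = τ :=
  (nm_inj empty_mem_GC hσ empty_mem_GC hτ (by rw [h])).2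

/-- the central involution -/
noncomputable def zz : Co0 := sg univ

theorem zz_smul (x : leechLattice) : zz • x = -x := by
  rw [zz, sg_eq univ_mem_GC, sgnEl_univ]

theorem zz_sq : zz * zz = 1 := sg_sq _

theorem zz_comm (g : Co0) : zz * g = g * zz :=
  co_ext fun x => by rw [mul_smul, mul_smul, zz_smul, zz_smul, co_neg]

theorem zz_ne_one : zz ≠ 1 := fun h => by
  have := sg_inj univ_mem_GC empty_mem_GC (h.trans sg_empty.symm)
  exact univ_nonempty.ne_empty this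

theorem mem_center_co0 {g : Co0} (h : ∀ x, g * x = x * g) : g = 1 ∨ g = zz := by
  have h1 : g ∈ (Subgroup.center Co0 : Set Co0) := Subgroup.mem_center_iff.2 fun x => (h x).symm
  rw [center_co0] at h1
  rw [zz, sg_eq univ_mem_GC]
  exact h1

/-- the sign changes -/
def EE : Subgroup Co0 where
  carrier := {g | ∃ c ∈ GC, g = sg c}
  one_mem' := ⟨∅, empty_mem_GC, sg_empty.symm⟩
  mul_mem' := by
    rintro _ _ ⟨c, hc, rfl⟩ ⟨d, hd, rfl⟩
    exact ⟨_, symmDiff_mem_GC hc hd, sg_mul hc hd⟩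
  inv_mem' := by
    rintro _ ⟨c, hc, rfl⟩
    exact ⟨c, hc, sg_inv c⟩

/-- the monomial group -/
def NN : Subgroup Co0 where
  carrier := {g | ∃ c ∈ GC, ∃ σ ∈ M24, g = sg c * pe σ}
  one_mem' := ⟨∅, empty_mem_GC, 1, M24.one_mem, by rw [sg_empty, pe_one, mul_one]⟩
  mul_mem' := by
    rintro _ _ ⟨c, hc, σ, hσ, rfl⟩ ⟨d, hd, τ, hτ, rfl⟩
    exact ⟨_, symmDiff_mem_GC hc (smul_mem_GC hσ hd), _, M24.mul_mem hσ hτ, nm_mul hc hσ hd hτ⟩
  inv_mem' := by
    rintro _ ⟨c, hc, σ, hσ, rfl⟩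
    refine ⟨σ⁻¹ • c, smul_mem_GC (M24.inv_mem hσ) hc, σ⁻¹, M24.inv_mem hσ, ?_⟩
    rw [mul_inv_rev, pe_inv hσ, sg_inv, pe_sg (M24.inv_mem hσ) hc]

theorem mem_EE {g : Co0} : g ∈ EE ↔ ∃ c ∈ GC, g = sg c := Iff.rfl
theorem mem_NN {g : Co0} : g ∈ NN ↔ ∃ c ∈ GC, ∃ σ ∈ M24, g = sg c * pe σ := Iff.rfl

theorem sg_mem_EE (hc : c ∈ GC) : sg c ∈ EE := ⟨c, hc, rfl⟩
theorem zz_mem_EE : zz ∈ EE := sg_mem_EE univ_mem_GC
theorem nm_mem_NN (hc : c ∈ GC) (hσ : σ ∈ M24) : sg c * pe σ ∈ NN := ⟨c, hc, σ, hσ, rfl⟩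
theorem sg_mem_NN (hc : c ∈ GC) : sg c ∈ NN := ⟨c, hc, 1, M24.one_mem, by rw [pe_one, mul_one]⟩
theorem pe_mem_NN (hσ : σ ∈ M24) : pe σ ∈ NN :=
  ⟨∅, empty_mem_GC, σ, hσ, by rw [sg_empty, one_mul]⟩

theorem EE_le_NN : EE ≤ NN := by
  rintro _ ⟨c, hc, rfl⟩; exact sg_mem_NN hc

theorem EE_sq {g : Co0} (h : g ∈ EE) : g * g = 1 := by
  obtain ⟨c, -, rfl⟩ := h; exact sg_sq c

theorem EE_comm {g h : Co0} (hg : g ∈ EE) (hh : h ∈ EE) : g * h = h * g := by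
  obtain ⟨c, hc, rfl⟩ := hg; obtain ⟨d, hd, rfl⟩ := hh; exact sg_comm hc hd

theorem NN_conj {g h : Co0} (hg : g ∈ NN) (hh : h ∈ EE) : g * h * g⁻¹ ∈ EE := by
  obtain ⟨c, hc, σ, hσ, rfl⟩ := hg; obtain ⟨d, hd, rfl⟩ := hh
  rw [nm_conj hc hσ hd]; exact sg_mem_EE (smul_mem_GC hσ hd)

theorem mem_NN_of_e8 {g : Co0} {a b : GolayPt} (h : g • e8 a = e8 b ∨ g • e8 a = -e8 b) :
    g ∈ NN := by
  obtain ⟨c, hc, σ, hσ, rfl⟩ := monomial h
  rw [← sg_eq hc, ← pe_eq hσ]; exact nm_mem_NN hc hσ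

theorem card_EE : Nat.card EE = 4096 := by
  rw [← ncard_GC, ← Nat.card_coe_set_eq]
  refine (Nat.card_congr (Equiv.ofBijective (fun c : GC => (⟨sg c.1, sg_mem_EE c.2⟩ : EE))
    ⟨fun a b h => Subtype.ext (sg_inj a.2 b.2 (congrArg Subtype.val h)), ?_⟩)).symm
  rintro ⟨_, c, hc, rfl⟩
  exact ⟨⟨c, hc⟩, rfl⟩

theorem card_NN : Nat.card NN = 4096 * 244823040 := by
  rw [← ncard_GC, ← Nat.card_coe_set_eq, ← Golay.card_M24, ← Nat.card_prod]
  refine (Nat.card_congr (Equiv.ofBijective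
    (fun c : GC × M24 => (⟨sg c.1.1 * pe c.2.1, nm_mem_NN c.1.2 c.2.2⟩ : NN)) ⟨fun a b h => ?_, ?_⟩)).symm
  · have := nm_inj a.1.2 a.2.2 b.1.2 b.2.2 (congrArg Subtype.val h)
    exact Prod.ext (Subtype.ext this.1) (Subtype.ext this.2)
  · rintro ⟨_, c, hc, σ, hσ, rfl⟩
    exact ⟨(⟨c, hc⟩, ⟨σ, hσ⟩), rfl⟩

theorem index_NN : NN.index = 8292375 := by
  have h := NN.card_mul_index
  rw [card_NN, card_co0] at h
  omega

/-- every 2-subgroup is conjugate into the monomial group -/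
theorem conj_into_NN {P : Subgroup Co0} (hP : IsPGroup 2 P) :
    ∃ g : Co0, ∀ x ∈ P, g * x * g⁻¹ ∈ NN := by
  haveI : Fact (Nat.Prime 2) := ⟨Nat.prime_two⟩
  have h1 : ¬ 2 ∣ Nat.card (Co0 ⧸ NN) := by
    have : Nat.card (Co0 ⧸ NN) = 8292375 := index_NN
    rw [this]; norm_num
  obtain ⟨q, hq⟩ := hP.nonempty_fixed_point_of_prime_not_dvd_card (Co0 ⧸ NN) h1
  obtain ⟨g, rfl⟩ := QuotientGroup.mk_surjective q
  refine ⟨g⁻¹, fun x hx => ?_⟩
  have h2 : ((x * g : Co0) : Co0 ⧸ NN) = (g : Co0 ⧸ NN) := hq ⟨x, hx⟩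
  have h3 := QuotientGroup.eq.1 h2.symm
  rwa [inv_inv, mul_assoc]

open Classical in
/-- the permutation part -/
noncomputable def rh (g : Co0) : Equiv.Perm GolayPt :=
  if h : g ∈ NN then h.choose_spec.2.choose else 1

theorem rh_eq (hc : c ∈ GC) (hσ : σ ∈ M24) : rh (sg c * pe σ) = σ := by
  have h := nm_mem_NN hc hσ
  have h1 : rh (sg c * pe σ) = h.choose_spec.2.choose := dif_pos h
  rw [h1]
  exact (nm_inj hc hσ h.choose_spec.1 h.choose_spec.2.choose_spec.1 h.choose_spec.2.choose_spec.2).2.symm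

theorem rh_mem {g : Co0} (hg : g ∈ NN) : rh g ∈ M24 := by
  obtain ⟨c, hc, σ, hσ, rfl⟩ := hg; rw [rh_eq hc hσ]; exact hσ

theorem rh_mul {g h : Co0} (hg : g ∈ NN) (hh : h ∈ NN) : rh (g * h) = rh g * rh h := by
  obtain ⟨c, hc, σ, hσ, rfl⟩ := hg; obtain ⟨d, hd, τ, hτ, rfl⟩ := hh
  rw [nm_mul hc hσ hd hτ, rh_eq hc hσ, rh_eq hd hτ,
    rh_eq (symmDiff_mem_GC hc (smul_mem_GC hσ hd)) (M24.mul_mem hσ hτ)]

theorem rh_conj {g : Co0} (hg : g ∈ NN) (hd : d ∈ GC) : g * sg d * g⁻¹ = sg (rh g • d) := by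
  obtain ⟨c, hc, σ, hσ, rfl⟩ := hg; rw [rh_eq hc hσ, nm_conj hc hσ hd]

theorem rh_pe (hσ : σ ∈ M24) : rh (pe σ) = σ := by
  have := rh_eq empty_mem_GC hσ
  rwa [sg_empty, one_mul] at this

theorem rh_sg (hc : c ∈ GC) : rh (sg c) = 1 := by
  have := rh_eq hc M24.one_mem
  rwa [pe_one, mul_one] at this

theorem mem_EE_of_rh {g : Co0} (hg : g ∈ NN) (h : rh g = 1) : g ∈ EE := by
  obtain ⟨c, hc, σ, hσ, rfl⟩ := hg
  rw [rh_eq hc hσ] at h
  rw [h, pe_one, mul_one]; exact sg_mem_EE hc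

theorem rh_e8 {g : Co0} (hg : g ∈ NN) (i : GolayPt) :
    g • e8 i = e8 (rh g i) ∨ g • e8 i = -e8 (rh g i) := by
  obtain ⟨c, hc, σ, hσ, rfl⟩ := hg; rw [rh_eq hc hσ]; exact nm_e8 hc hσ i

/-- the permutation part as a homomorphism -/
noncomputable def rho : NN →* Equiv.Perm GolayPt :=
  MonoidHom.mk' (fun g => rh g.1) fun g h => rh_mul g.2 h.2

theorem axis {u : leechLattice} {j : GolayPt} (hu : nrm u = 64) (h : ∀ k, k ≠ j → u.1 k = 0) :
    u = e8 j ∨ u = -e8 j := by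
  have h1 : nrm u = u.1 j ^ 2 := by
    refine Finset.sum_eq_single j (fun k _ hk => by rw [h k hk]; rfl) fun h => absurd (mem_univ j) h
  rw [hu] at h1
  have h2 : u.1 j = 8 ∨ u.1 j = -8 := by
    have : (u.1 j - 8) * (u.1 j + 8) = 0 := by linear_combination -h1
    rcases mul_eq_zero.1 this with h | h <;> omega
  rcases h2 with h2 | h2
  · exact Or.inl (eq_e8 hu h2)
  · right
    have := eq_e8 (u := -u) (i := j) (by rw [nrm_neg, hu]) (by rw [neg_apply, h2]; rfl)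
    rw [← this, neg_neg]

/-- an element commuting with a separating family of sign changes is a sign change -/
theorem mem_EE_of_comm {h : Co0}
    (H : ∀ i j, i ≠ j → ∃ c ∈ GC, (i ∈ c ↔ j ∉ c) ∧ sg c * h = h * sg c) : h ∈ EE := by
  have h1 : ∀ i, h • e8 i = e8 i ∨ h • e8 i = -e8 i := by
    intro i
    refine axis (by rw [nrm_smul, nrm_e8]) fun k hk => ?_
    obtain ⟨c, hc, h2, h3⟩ := H i k hk.symm
    have h4 : sg c • h • e8 i = h • sg c • e8 i := by rw [← mul_smul, h3, mul_smul]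
    have h5 := congrArg (fun x : leechLattice => x.1 k) h4
    simp only [sg_apply hc] at h5
    by_cases h6 : i ∈ c
    · rw [sg_eq hc, sgnEl_e8' c hc h6, co_neg, neg_apply, sgn_pos (h2.1 h6)] at h5
      omega
    · have h7 : k ∈ c := by
        by_contra h7; exact h6 (h2.2 h7)
      rw [sg_eq hc, sgnEl_e8 c hc h6, sgn_neg h7] at h5
      omega
  have h2 := mem_NN_of_e8 (h1 none)
  exact mem_EE_of_rh h2 (Equiv.ext fun i => pm_e8_inj (rh_e8 h2 i) (h1 i))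

theorem cent_EE {h : Co0} (H : ∀ c ∈ GC, sg c * h = h * sg c) : h ∈ EE :=
  mem_EE_of_comm fun i j hij => by
    obtain ⟨c, hc, h1, h2⟩ := exists_sep hij
    exact ⟨c, hc, by simp [h1, h2], H c hc⟩

theorem norm_EE {h : Co0} (H : ∀ c ∈ GC, h⁻¹ * sg c * h ∈ EE) : h ∈ NN := by
  have hu : nrm (h • e8 none) = 64 := by rw [nrm_smul, nrm_e8]
  obtain ⟨j, hj⟩ : ∃ j, (h • e8 none).1 j ≠ 0 := by
    by_contra hcon
    push Not at hcon
    have : nrm (h • e8 none) = 0 := Finset.sum_eq_zero fun j _ => by rw [hcon j]; rfl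
    omega
  refine mem_NN_of_e8 (a := none) (b := j) (axis hu fun k hk => ?_)
  obtain ⟨c, hc, h1, h2⟩ := exists_sep hk.symm
  obtain ⟨d, hd, h3⟩ := H c hc
  have h4 : sg c • h • e8 none = h • sg d • e8 none := by
    rw [← mul_smul, ← mul_smul, ← h3]; congr 1; group
  have h5 := congrArg (fun x : leechLattice => x.1 k) h4
  have h6 := congrArg (fun x : leechLattice => x.1 j) h4
  simp only [sg_apply hc] at h5 h6
  rw [sgn_neg h2] at h5
  rw [sgn_pos h1] at h6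
  by_cases h7 : none ∈ d
  · rw [sg_eq hd, sgnEl_e8' d hd h7, co_neg, neg_apply] at h6
    omega
  · rw [sg_eq hd, sgnEl_e8 d hd h7] at h5
    omega

/-- the sign changes form the only elementary abelian subgroup of order `2^12` of the monomial
group -/
theorem eq_EE {F : Subgroup Co0} (hF : F ≤ NN) (h2 : ∀ x ∈ F, x * x = 1)
    (hc : Nat.card F = 4096) : F = EE := by
  let ψ : F →* Equiv.Perm GolayPt := rho.comp (Subgroup.inclusion hF)
  have hψ : ∀ x : F, ψ x = rh x.1 := fun x => rfl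
  have hcomm : ∀ x ∈ F, ∀ y ∈ F, x * y = y * x := by
    intro x hx y hy
    have h3 := h2 _ (F.mul_mem hx hy)
    have h4 : x⁻¹ = x := inv_eq_of_mul_eq_one_right (h2 x hx)
    have h5 : y⁻¹ = y := inv_eq_of_mul_eq_one_right (h2 y hy)
    rw [← inv_eq_of_mul_eq_one_right h3, mul_inv_rev, h4, h5]
  by_cases hne : ψ.range = ⊥
  · have h3 : F ≤ EE := by
      intro x hx
      refine mem_EE_of_rh (hF hx) ?_
      have : ψ ⟨x, hx⟩ ∈ ψ.range := ⟨_, rfl⟩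
      rw [hne] at this
      exact this
    exact Subgroup.eq_of_le_of_card_ge h3 (by rw [hc, card_EE])
  · exfalso
    have h3 := ff_bound (B := ψ.range) (by rintro _ ⟨x, rfl⟩; exact rh_mem (hF x.2))
      (by rintro _ ⟨x, rfl⟩; rw [← map_mul, show x * x = 1 from Subtype.ext (h2 x.1 x.2), map_one]) hne
    have h4 : Nat.card F = Nat.card ψ.ker * Nat.card ψ.range := by
      rw [← ψ.ker.card_mul_index, Subgroup.index_ker]
    have h5 : Nat.card ψ.ker ≤ {c | c ∈ GC ∧ ∀ b ∈ ψ.range, b • c = c}.ncard := by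
      have h6 : ∀ x : ψ.ker, ∃ c, (c ∈ GC ∧ ∀ b ∈ ψ.range, b • c = c) ∧ x.1.1 = sg c := by
        intro x
        obtain ⟨c, hc, h7⟩ := mem_EE_of_rh (hF x.1.2) x.2
        refine ⟨c, ⟨hc, ?_⟩, h7⟩
        rintro _ ⟨y, rfl⟩
        refine sg_inj (smul_mem_GC (rh_mem (hF y.2)) hc) hc ?_
        rw [hψ, ← rh_conj (hF y.2) hc, ← h7, hcomm _ y.2 _ x.1.2, mul_inv_cancel_right]
      choose f hf hf' using h6
      rw [← Nat.card_coe_set_eq]
      refine Nat.card_le_card_of_injective (fun x => ⟨f x, hf x⟩) fun a b h => ?_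
      have h8 : f a = f b := congrArg Subtype.val h
      exact Subtype.ext (Subtype.ext (by rw [hf', hf', h8]))
    have h7 := Nat.mul_le_mul_right (Nat.card ψ.range) h5
    rw [← h4, hc, mul_comm] at h7
    omega

theorem isPGroup_of_sq {G : Type*} [Group G] {F : Subgroup G} (h2 : ∀ x ∈ F, x * x = 1) :
    IsPGroup 2 F := fun x => ⟨1, Subtype.ext (by simpa [pow_two] using h2 x.1 x.2)⟩

/-- all elementary abelian subgroups of order `2^12` are conjugate -/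
theorem conj_EE {F : Subgroup Co0} (h2 : ∀ x ∈ F, x * x = 1) (hc : Nat.card F = 4096) :
    ∃ g : Co0, ∀ x, x ∈ F ↔ g * x * g⁻¹ ∈ EE := by
  obtain ⟨g, hg⟩ := conj_into_NN (isPGroup_of_sq h2)
  have h3 := eq_EE (F := F.map (MulAut.conj g).toMonoidHom) (by rintro _ ⟨x, hx, rfl⟩; exact hg x hx)
    (by
      rintro _ ⟨x, hx, rfl⟩
      rw [← map_mul, h2 x hx, map_one])
    (by rw [Subgroup.card_map_of_injective (MulAut.conj g).injective, hc])
  refine ⟨g, fun x => ?_⟩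
  rw [← h3]
  constructor
  · intro hx; exact ⟨x, hx, rfl⟩
  · rintro ⟨y, hy, h⟩
    have : y = x := (MulAut.conj g).injective h
    rwa [← this]

end Cfsg.Lib.Dot0
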